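import Cfsg.Agent.Lib.Signalizer.Coprime
import Cfsg.Agent.Lib.FrobAction.QGroupModule

/-!
Direct squares of Suzuki groups by spectrum: four classes of primes, elementary facts about rank one.
-/

set_option autoImplicit false
set_option linter.unusedSectionVars false

namespace CfsgLib.SzSq

open Subgroup

universe u

/-- Four primes, two among them, with the arithmetic needed below. -/
structure Ar (R : Finset ℕ) : Prop where
  card : R.card = 4
  prime : ∀ p ∈ R, p.Prime
  two : 2 ∈ R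
  five : ∀ r ∈ R, r ≠ 2 → 5 ≤ r
  fermat : ∀ r ∈ R, r ≠ 2 → ∀ n : ℕ, r ≠ 2 ^ n + 1
  sub : ∀ r ∈ R, r ≠ 2 → ∀ p ∈ R, p ≠ 2 → p ≠ r → ¬ r ∣ p - 1 ∧ ¬ r ∣ p + 1

/-- Small exponents and no element meeting three of the primes. -/
structure Hyp (R : Finset ℕ) (G : Type u) [Group G] : Prop where
  exp2 : ∀ x : G, orderOf x ≠ 8
  expp : ∀ x : G, ∀ p ∈ R, p ≠ 2 → orderOf x ≠ p ^ 2
  nt : ∀ x : G, ∀ p ∈ R, ∀ q ∈ R, ∀ r ∈ R, p ≠ q → p ≠ r → q ≠ r →
    p ∣ orderOf x → q ∣ orderOf x → ¬ r ∣ orderOf x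

/-- An elementary abelian subgroup of order `t²` inside `K`. -/
def Fat {G : Type u} [Group G] (t : ℕ) (K : Subgroup G) : Prop :=
  ∃ A : Subgroup G, A ≤ K ∧ Cfsg.IsElementaryAbelian t A ∧ Nat.card A = t ^ 2

/-- A nontrivial element of `V` commuting with `a`. -/
def Fix {G : Type u} [Group G] (V : Subgroup G) (a : G) : Prop := ∃ v ∈ V, v ≠ 1 ∧ Commute a v

variable {G : Type u} [Group G] [Finite G]

theorem Fat.mono {t : ℕ} {K L : Subgroup G} (h : Fat t K) (hle : K ≤ L) : Fat t L :=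
  let ⟨A, hA, h1, h2⟩ := h; ⟨A, hA.trans hle, h1, h2⟩

theorem Hyp.subgroup {R : Finset ℕ} (hG : Hyp R G) (H : Subgroup G) : Hyp R H where
  exp2 x := by rw [← Subgroup.orderOf_coe]; exact hG.exp2 x
  expp x := by rw [← Subgroup.orderOf_coe]; exact hG.expp x
  nt x := by rw [← Subgroup.orderOf_coe]; exact hG.nt x

theorem Hyp.triple {R : Finset ℕ} (hR : Ar R) (hG : Hyp R G) {x y z : G} {p q r : ℕ} (hx : orderOf x = p)
    (hy : orderOf y = q) (hz : orderOf z = r) (hp : p ∈ R) (hq : q ∈ R) (hr : r ∈ R) (hpq : p ≠ q) (hpr : p ≠ r)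
    (hqr : q ≠ r) (hxy : Commute x y) (hxz : Commute x z) (hyz : Commute y z) : False := by
  have c1 : (orderOf x).Coprime (orderOf y) := by
    rw [hx, hy]; exact (Nat.coprime_primes (hR.prime p hp) (hR.prime q hq)).mpr hpq
  have o1 := hxy.orderOf_mul_eq_mul_orderOf_of_coprime c1
  have c2 : (orderOf (x * y)).Coprime (orderOf z) := by
    rw [o1, hx, hy, hz]
    exact Nat.Coprime.mul_left ((Nat.coprime_primes (hR.prime p hp) (hR.prime r hr)).mpr hpr)
      ((Nat.coprime_primes (hR.prime q hq) (hR.prime r hr)).mpr hqr)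
  have o2 := (hxz.mul_left hyz).orderOf_mul_eq_mul_orderOf_of_coprime c2
  rw [o1, hx, hy, hz] at o2
  exact hG.nt (x * y * z) p hp q hq r hr hpq hpr hqr (o2 ▸ dvd_mul_of_dvd_left (dvd_mul_right _ _) _)
    (o2 ▸ dvd_mul_of_dvd_left (dvd_mul_left _ _) _) (o2 ▸ dvd_mul_left _ _)

/-- Elements of an elementary abelian group have prime order. -/
theorem orderOf_ea {t : ℕ} (ht : t.Prime) {A : Subgroup G} (hA : Cfsg.IsElementaryAbelian t A) {a : G} (ha : a ∈ A)
    (h1 : a ≠ 1) : orderOf a = t :=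
  haveI := Fact.mk ht
  orderOf_eq_prime (hA.2 a ha) h1

/-- Coprime action of `t²`: some nontrivial element fixes a point. -/
theorem gen_fix {t : ℕ} (ht : t.Prime) {A K : Subgroup G} (hA : Cfsg.IsElementaryAbelian t A)
    (hc : Nat.card A = t ^ 2) (hK : ¬ t ∣ Nat.card K) (hAK : A ≤ Subgroup.normalizer (K : Set G)) (hK1 : K ≠ ⊥) :
    ∃ a ∈ A, a ≠ 1 ∧ Fix K a := by
  haveI := Fact.mk ht
  haveI := hA.1
  have hnc := Signalizer.ea_not_cyclic hA (by rw [hc, pow_two]; exact lt_mul_of_one_lt_right ht.pos ht.one_lt)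
  have h := coprime_generated_by_centralizers hnc hAK (Signalizer.ea_coprime hA hK)
  by_contra hn
  push Not at hn
  refine hK1 (eq_bot_iff.mpr (h.symm.le.trans (iSup₂_le fun a ha => ?_)))
  intro v hv
  by_contra hv1
  exact hn a ha.1 ha.2 ⟨v, hv.1, hv1, (Subgroup.mem_centralizer_singleton_iff.mp hv.2).symm⟩

/-- Coprime action of `t²`: a subgroup containing all fixed points is everything. -/
theorem gen_le {t : ℕ} (ht : t.Prime) {A K M : Subgroup G} (hA : Cfsg.IsElementaryAbelian t A)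
    (hc : Nat.card A = t ^ 2) (hK : ¬ t ∣ Nat.card K) (hAK : A ≤ Subgroup.normalizer (K : Set G))
    (h : ∀ a ∈ A, a ≠ 1 → K ⊓ Subgroup.centralizer {a} ≤ M) : K ≤ M := by
  haveI := Fact.mk ht
  haveI := hA.1
  have hnc := Signalizer.ea_not_cyclic hA (by rw [hc, pow_two]; exact lt_mul_of_one_lt_right ht.pos ht.one_lt)
  exact (coprime_generated_by_centralizers hnc hAK (Signalizer.ea_coprime hA hK)).symm.le.trans
    (iSup₂_le fun a ha => h a ha.1 ha.2)

/-- A group of prime order `s` is not divisible by another prime. -/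
theorem not_dvd_of_isPGroup {s t : ℕ} (hs : s.Prime) (ht : t.Prime) (hne : t ≠ s) {K : Subgroup G}
    (hK : IsPGroup s K) : ¬ t ∣ Nat.card K := by
  haveI := Fact.mk hs
  obtain ⟨n, hn⟩ := hK.exists_card_eq
  rw [hn]
  exact fun h => hne ((Nat.prime_dvd_prime_iff_eq ht hs).mp (ht.dvd_of_dvd_pow h))

theorem isPGroup_of_exp {s : ℕ} {V : Subgroup G} (h : ∀ v ∈ V, v ^ s = 1) : IsPGroup s V :=
  fun v => ⟨1, Subtype.ext (by rw [pow_one]; simpa using h v v.2)⟩

/-- No `q²` in the centraliser of an element with fixed points. -/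
theorem Hyp.no_fat_cent {R : Finset ℕ} (hR : Ar R) (hG : Hyp R G) {x : G} {r q s : ℕ} (hx : orderOf x = r) (hr : r ∈ R)
    (hq : q ∈ R) (hs : s ∈ R) (hrq : r ≠ q) (hrs : r ≠ s) (hqs : q ≠ s) {V : Subgroup G}
    (hV : ∀ v ∈ V, v ^ s = 1) (hfix : Fix V x) {K : Subgroup G} (hK : K ≤ Subgroup.centralizer {x})
    (hKV : K ≤ Subgroup.normalizer (V : Set G)) : ¬ Fat q K := by
  rintro ⟨A, hAK, hA, hAc⟩
  haveI := Fact.mk (hR.prime s hs)
  obtain ⟨v, hv, hv1, hxv⟩ := hfix
  set W := V ⊓ Subgroup.centralizer {x}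
  have hW1 : W ≠ ⊥ := fun h => hv1 ((Subgroup.eq_bot_iff_forall _).mp h v
    ⟨hv, Subgroup.mem_centralizer_singleton_iff.mpr hxv.symm⟩)
  have hAW : A ≤ Subgroup.normalizer (W : Set G) := by
    refine Signalizer.inf_normalizes (hAK.trans hKV) ((hAK.trans hK).trans ?_)
    exact Subgroup.le_normalizer
  obtain ⟨a, ha, ha1, w, hw, hw1, haw⟩ := gen_fix (hR.prime q hq) hA hAc
    (not_dvd_of_isPGroup (hR.prime s hs) (hR.prime q hq) hqs (isPGroup_of_exp (V := W) (fun v hv => hV v hv.1))) hAW hW1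
  refine hG.triple hR hx (orderOf_ea (hR.prime q hq) hA ha ha1) (orderOf_eq_prime (hV w hw.1) hw1) hr hq hs hrq hrs
    hqs (Subgroup.mem_centralizer_singleton_iff.mp (hK (hAK ha))).symm ?_ haw
  exact (Subgroup.mem_centralizer_singleton_iff.mp hw.2).symm

/-- Without fixed points, commutators centralise. -/
theorem kill {x : G} {r q s : ℕ} (hx : orderOf x = r) (hr : r.Prime) (hq : q.Prime) (hs : s.Prime) (hrq : r ≠ q)
    (hrs : r ≠ s) (hqs : q ≠ s) (hferm : q = 2 → ∀ n : ℕ, r ≠ 2 ^ n + 1) {Q V : Subgroup G} (hQ : IsPGroup q Q)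
    (hV : Cfsg.IsElementaryAbelian s V) (hxQ : x ∈ Subgroup.normalizer (Q : Set G))
    (hxV : x ∈ Subgroup.normalizer (V : Set G)) (hQV : Q ≤ Subgroup.normalizer (V : Set G)) (hfix : ¬ Fix V x) :
    ∀ u ∈ Q, x * u * x⁻¹ * u⁻¹ ∈ Subgroup.centralizer (V : Set G) := by
  haveI := Fact.mk hr
  haveI := Fact.mk hq
  haveI := Fact.mk hs
  haveI := hV.1
  intro u hu
  refine QGroupModule.commutator_centralizes (p := s) hqs.symm hrs.symm hrq.symm (Subgroup.zpowers x) Q V
    (by rw [Nat.card_zpowers, hx]) hQ hV.2 (Subgroup.zpowers_le.mpr hxQ) (Subgroup.zpowers_le.mpr hxV) hQV ?_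
    (fun h2 ⟨n, hn⟩ => absurd hn (hferm h2 n)) x (Subgroup.mem_zpowers x) u hu
  refine (Subgroup.eq_bot_iff_forall _).mpr fun v hv => ?_
  by_contra hv1
  exact hfix ⟨v, hv.1, hv1, Subgroup.mem_centralizer_iff.mp hv.2 x (Subgroup.mem_zpowers x)⟩

/-- An element of order prime to `t - 1` centralises a normalised group of order `t`. -/
theorem centralises_prime {t n : ℕ} (ht : t.Prime) {K : Subgroup G} (hK : Nat.card K = t) {a : G} (ha : a ^ n = 1)
    (hn : n.Coprime (t - 1)) (haK : a ∈ Subgroup.normalizer (K : Set G)) : a ∈ Subgroup.centralizer (K : Set G) := by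
  haveI := Fact.mk ht
  haveI : IsCyclic K := isCyclic_of_prime_card hK
  set φ := QGroupModule.conjAut (Subgroup.zpowers a) K (Subgroup.zpowers_le.mpr haK)
  set e := φ ⟨a, Subgroup.mem_zpowers a⟩ with he
  have h1 : orderOf e ∣ n := orderOf_dvd_of_pow_eq_one (by
    rw [he, ← map_pow]
    rw [show (⟨a, Subgroup.mem_zpowers a⟩ : Subgroup.zpowers a) ^ n = 1 from Subtype.ext (by simpa using ha), map_one])
  have h2 : orderOf e ∣ t - 1 := by
    have h := orderOf_dvd_natCard e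
    rwa [IsCyclic.card_mulAut, hK, Nat.totient_prime ht] at h
  have h3 : e = 1 := orderOf_eq_one_iff.mp (Nat.eq_one_of_dvd_coprimes hn h1 h2)
  rw [Subgroup.mem_centralizer_iff]
  intro k hk
  have h4 := congrArg (fun f : MulAut K => ((f ⟨k, hk⟩ : K) : G)) h3
  rw [he] at h4
  simp only [φ, QGroupModule.conjAut_apply, MulAut.one_apply] at h4
  calc k * a = a * k * a⁻¹ * a := by rw [h4]
    _ = a * k := by group

/-- Permutations of odd prime order fix small invariant sets. -/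
theorem fixed_of_small {α : Type*} (f : α → α) {r : ℕ} (hr : r.Prime) (hf : ∀ x, f^[r] x = x) (S : Finset α)
    (hS : ∀ x ∈ S, f x ∈ S) (hc : S.card < r) {x : α} (hx : x ∈ S) : f x = x := by
  classical
  rcases (Nat.dvd_prime hr).mp (Function.IsPeriodicPt.minimalPeriod_dvd (hf x)) with h | h
  · exact Function.minimalPeriod_eq_one_iff_isFixedPt.mp h
  · exfalso
    have hin : ∀ i, f^[i] x ∈ S := by
      intro i; induction i with
      | zero => exact hx
      | succ i ih => rw [Function.iterate_succ_apply']; exact hS _ ih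
    have := Finset.card_le_card_of_injOn (s := Finset.range r) (fun i => f^[i] x) (fun i _ => hin i)
      (fun i hi j hj e => Function.iterate_injOn_Iio_minimalPeriod (f := f) (x := x)
        (by rw [h]; simpa using hi) (by rw [h]; simpa using hj) e)
    rw [Finset.card_range] at this
    omega

end CfsgLib.SzSq
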