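import Cfsg.Agent.Lib.SzSquare.Tools

/-!
Two commuting elementary groups normalised by a group of the two remaining classes.
-/

set_option autoImplicit false
set_option linter.unusedSectionVars false

namespace CfsgLib.SzSq

open Subgroup

universe u

variable {G : Type u} [Group G] [Finite G]

/-- The data of two commuting elementary groups and a group normalising them. -/
structure Pair (R : Finset ℕ) (V P K : Subgroup G) (s p q r : ℕ) : Prop where
  ar : Ar R
  hyp : Hyp R G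
  mem : s ∈ R ∧ p ∈ R ∧ q ∈ R ∧ r ∈ R
  ne : s ≠ p ∧ s ≠ q ∧ s ≠ r ∧ p ≠ q ∧ p ≠ r ∧ q ≠ r
  eaV : Cfsg.IsElementaryAbelian s V
  eaP : Cfsg.IsElementaryAbelian p P
  comm : ∀ v ∈ V, ∀ w ∈ P, Commute v w
  nV : V ≠ ⊥
  nP : P ≠ ⊥
  normal : V.Normal
  norm : K ≤ Subgroup.normalizer (P : Set G)
  solv : Group.IsSolvable K
  fq : Fat q K
  fr : Fat r K
  primes : ∀ t : ℕ, t.Prime → t ∣ Nat.card K → t = q ∨ t = r

variable {R : Finset ℕ} {V P K : Subgroup G} {s p q r : ℕ}

theorem Pair.swap (h : Pair R V P K s p q r) : Pair R V P K s p r q where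
  ar := h.ar
  hyp := h.hyp
  mem := ⟨h.mem.1, h.mem.2.1, h.mem.2.2.2, h.mem.2.2.1⟩
  ne := ⟨h.ne.1, h.ne.2.2.1, h.ne.2.1, h.ne.2.2.2.2.1, h.ne.2.2.2.1, h.ne.2.2.2.2.2.symm⟩
  eaV := h.eaV
  eaP := h.eaP
  comm := h.comm
  nV := h.nV
  nP := h.nP
  normal := h.normal
  norm := h.norm
  solv := h.solv
  fq := h.fr
  fr := h.fq
  primes := fun t ht hd => (h.primes t ht hd).symm

theorem Pair.norV (h : Pair R V P K s p q r) (H : Subgroup G) : H ≤ Subgroup.normalizer (V : Set G) := by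
  haveI := h.normal
  rw [Subgroup.normalizer_eq_top]
  exact le_top

theorem Pair.not_both (h : Pair R V P K s p q r) {a : G} {t : ℕ} (ha : orderOf a = t) (htR : t ∈ R) (hts : t ≠ s)
    (htp : t ≠ p) (hV : Fix V a) (hP : Fix P a) : False := by
  obtain ⟨v, hv, hv1, hav⟩ := hV
  obtain ⟨w, hw, hw1, haw⟩ := hP
  exact h.hyp.triple h.ar ha (orderOf_ea (h.ar.prime s h.mem.1) h.eaV hv hv1)
    (orderOf_ea (h.ar.prime p h.mem.2.1) h.eaP hw hw1) htR h.mem.1 h.mem.2.1 hts htp h.ne.1 hav haw (h.comm v hv w hw)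

/-- A core of rank two with the other prime odd. -/
theorem Pair.odd_false (h : Pair R V P K s p q r) (hr2 : r ≠ 2) (hfat : Fat q (core q K)) : False := by
  obtain ⟨hs, hp, hq, hr⟩ := h.mem
  obtain ⟨nsp, nsq, nsr, npq, npr, nqr⟩ := h.ne
  have hrp := h.ar.prime r hr
  have hqp := h.ar.prime q hq
  have hsp := h.ar.prime s hs
  set Q := core q K
  obtain ⟨A, hAK, hA, hAc⟩ := h.fr
  obtain ⟨a, ha, ha1, hfix⟩ := gen_fix hrp hA hAc
    (not_dvd_of_isPGroup hsp hrp nsr.symm (isPGroup_of_exp h.eaV.2)) (h.norV A) h.nV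
  have hao : orderOf a = r := orderOf_ea hrp hA ha ha1
  have hQ : IsPGroup q Q := core_pgroup q K
  have haQ : a ∈ Subgroup.normalizer (Q : Set G) := le_normalizer_core q K (hAK ha)
  have hQP : Q ≤ Subgroup.normalizer (P : Set G) := (core_le q K).trans h.norm
  set Qp := Q ⊓ Subgroup.centralizer (P : Set G)
  -- the part centralising `P` is thin
  have hthin : ¬ Fat q Qp := by
    rintro ⟨B, hB, hBe, hBc⟩
    obtain ⟨b, hb, hb1, hbv⟩ := gen_fix hqp hBe hBc
      (not_dvd_of_isPGroup hsp hqp nsq.symm (isPGroup_of_exp h.eaV.2)) (h.norV B) h.nV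
    obtain ⟨w, hw, hw1⟩ := (Subgroup.ne_bot_iff_exists_ne_one.mp h.nP |>.elim fun w hw =>
      ⟨(w : G), w.2, fun e => hw (Subtype.ext e)⟩ : ∃ w, w ∈ P ∧ w ≠ 1)
    exact h.not_both (orderOf_ea hqp hBe hb hb1) hq nsq.symm npq.symm hbv
      ⟨w, hw, hw1, (Subgroup.mem_centralizer_iff.mp (hB hb).2 w hw).symm⟩
  have hkill := kill hao hrp hqp (h.ar.prime p hp) nqr.symm npr.symm npq.symm (fun _ => h.ar.fermat r hr hr2) hQ
    h.eaP haQ (h.norm (hAK ha)) hQP (fun hf => h.not_both hao hr nsr.symm npr.symm hfix hf)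
  have hQp : IsPGroup q Qp := hQ.to_le inf_le_left
  have haQp : a ∈ Subgroup.normalizer (Qp : Set G) := by
    refine Signalizer.inf_normalizes (A := A) ((hAK.trans (le_normalizer_core q K))) ?_ ha
    exact hAK.trans (h.norm.trans (normalizer_le_normalizer_centralizer' P))
  have hac := h.hyp.thin_cent h.ar hq hr hr2 hQp hthin (hao ▸ pow_orderOf_eq_one a) haQp
  refine h.hyp.no_fat_cent h.ar hao hr hq hs nqr.symm nsr.symm nsq.symm h.eaV.2 hfix (K := Q) ?_ (h.norV Q) hfat
  intro u hu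
  rw [Subgroup.mem_centralizer_singleton_iff]
  set z := a * u * a⁻¹ * u⁻¹ with hz
  have hzQ : z ∈ Qp := ⟨Q.mul_mem ((Subgroup.mem_normalizer_iff.mp haQ u).mp hu) (Q.inv_mem hu), hkill u hu⟩
  have hau : a * u * a⁻¹ = z * u := by rw [hz, inv_mul_cancel_right]
  have hzc : Commute a z := (Subgroup.mem_centralizer_iff.mp hac z hzQ).symm
  have hn : ∀ n : ℕ, a ^ n * u * (a ^ n)⁻¹ = z ^ n * u := by
    intro n; induction n with
    | zero => simp
    | succ n ih =>
      calc a ^ (n + 1) * u * (a ^ (n + 1))⁻¹ = a * (a ^ n * u * (a ^ n)⁻¹) * a⁻¹ := by rw [pow_succ']; group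
        _ = (a * z ^ n * a⁻¹) * (a * u * a⁻¹) := by rw [ih]; group
        _ = z ^ n * (z * u) := by rw [(hzc.pow_right n).eq, mul_inv_cancel_right, hau]
        _ = z ^ (n + 1) * u := by rw [pow_succ]; exact (mul_assoc _ _ _).symm
  have hzr : z ^ r = 1 := by
    have := hn r
    rw [← hao, pow_orderOf_eq_one, one_mul, inv_one, mul_one, hao] at this
    exact mul_right_cancel (b := u) (by rw [← this, one_mul])
  haveI := Fact.mk hqp
  obtain ⟨k, hk⟩ := IsPGroup.iff_orderOf.mp hQp ⟨z, hzQ⟩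
  rw [Subgroup.orderOf_mk] at hk
  have hz1 : z = 1 := orderOf_eq_one_iff.mp (Nat.eq_one_of_dvd_coprimes
    (Nat.Coprime.pow_left k ((Nat.coprime_primes hqp hrp).mpr nqr)) (hk ▸ dvd_rfl) (orderOf_dvd_of_pow_eq_one hzr))
  rw [hz, mul_inv_eq_one, mul_inv_eq_iff_eq_mul] at hz1
  exact hz1.symm
where
  normalizer_le_normalizer_centralizer' (P : Subgroup G) :
      Subgroup.normalizer (P : Set G) ≤ Subgroup.normalizer (Subgroup.centralizer (P : Set G) : Set G) := by
    intro g hg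
    rw [Subgroup.mem_normalizer_iff]
    intro c
    constructor
    · intro hc
      rw [Subgroup.mem_centralizer_iff] at hc ⊢
      intro w hw
      have h1 : g⁻¹ * w * g ∈ P := by
        have := (Subgroup.mem_normalizer_iff.mp (inv_mem hg) w).mp hw
        simpa using this
      calc w * (g * c * g⁻¹) = g * ((g⁻¹ * w * g) * c) * g⁻¹ := by group
        _ = g * c * g⁻¹ * w := by rw [hc _ h1]; group
    · intro hc
      rw [Subgroup.mem_centralizer_iff] at hc ⊢
      intro w hw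
      have h1 : g * w * g⁻¹ ∈ P := (Subgroup.mem_normalizer_iff.mp hg w).mp hw
      have := hc _ h1
      calc w * c = g⁻¹ * ((g * w * g⁻¹) * (g * c * g⁻¹)) * g := by group
        _ = c * w := by rw [this]; group

/-- A core of rank two with the other prime two. -/
theorem Pair.two_false (h : Pair R V P K s p q 2) (hfat : Fat q (core q K)) : False := by
  obtain ⟨hs, hp, hq, h2⟩ := h.mem
  obtain ⟨nsp, nsq, ns2, npq, np2, nq2⟩ := h.ne
  have hqp := h.ar.prime q hq
  have hsp := h.ar.prime s hs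
  have hpp := h.ar.prime p hp
  set Q := core q K
  have hQ : IsPGroup q Q := core_pgroup q K
  obtain ⟨A, hAK, hA, hAc⟩ := h.fr
  -- two involutions without fixed points on one of the two groups
  have key : ∀ (t : ℕ) (W U : Subgroup G), t ∈ R → t ≠ 2 → t ≠ q → (∀ a : G, orderOf a = 2 → Fix W a → Fix U a → False) →
      Cfsg.IsElementaryAbelian t W → W ≠ ⊥ → K ≤ Subgroup.normalizer (W : Set G) →
      (∃ u : ℕ, u ∈ R ∧ u ≠ 2 ∧ u ≠ q ∧ t ≠ u ∧ Cfsg.IsElementaryAbelian u U) →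
      U ≠ ⊥ → (∀ w ∈ W, ∀ y ∈ U, Commute w y) →
      K ≤ Subgroup.normalizer (U : Set G) →
      ∀ a ∈ A, ∀ b ∈ A, a ≠ b → a ≠ 1 → b ≠ 1 → ¬ Fix W a → ¬ Fix W b → False := by
    intro t W U htR ht2 htq hexcl hW hW1 hWn ⟨u, huR, hu2, huq, htu, hU⟩ hU1 hcom hUn a ha b hb hab ha1 hb1 hfa hfb
    have o2 : ∀ x ∈ A, x * x = 1 := fun x hx => by rw [← pow_two]; exact hA.2 x hx
    have ia := inverts (o2 a ha) (hWn (hAK ha)) hfa
    have ib := inverts (o2 b hb) (hWn (hAK hb)) hfb
    set c := a * b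
    have hc : c ∈ A := mul_mem ha hb
    have hc1 : c ≠ 1 := fun e => hab (by rw [eq_inv_of_mul_eq_one_left e, inv_eq_of_mul_eq_one_right (o2 b hb)])
    have hcW : ∀ w ∈ W, Commute c w := by
      intro w hw
      have : c * w * c⁻¹ = w := by
        calc a * b * w * (a * b)⁻¹ = a * (b * w * b⁻¹) * a⁻¹ := by group
          _ = w := by rw [ib w hw, ia _ (inv_mem hw), inv_inv]
      exact mul_inv_eq_iff_eq_mul.mp this
    obtain ⟨⟨w, hw⟩, hw1⟩ := Subgroup.ne_bot_iff_exists_ne_one.mp hW1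
    have hfc : Fix W c := ⟨w, hw, fun e => hw1 (Subtype.ext e), hcW w hw⟩
    have hco : orderOf c = 2 := orderOf_ea Nat.prime_two hA hc hc1
    have hnU : ¬ Fix U c := hexcl c hco hfc
    have hk := kill hco Nat.prime_two hqp (h.ar.prime u huR) nq2.symm hu2.symm huq.symm (fun e => absurd e nq2)
      hQ hU (le_normalizer_core q K (hAK hc)) (hUn (hAK hc)) ((core_le q K).trans hUn) hnU
    refine h.hyp.no_fat_cent h.ar hco h2 hq htR nq2.symm ht2.symm htq.symm hW.2 hfc (K := Q) ?_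
      ((core_le q K).trans hWn) hfat
    intro x hx
    rw [Subgroup.mem_centralizer_singleton_iff]
    set z := c * x * c⁻¹ * x⁻¹ with hz
    have hzQ : z ∈ Q := mul_mem ((Subgroup.mem_normalizer_iff.mp (le_normalizer_core q K (hAK hc)) x).mp hx) (inv_mem hx)
    by_contra hne
    have hz1 : z ≠ 1 := fun e => hne (by
      rw [hz, mul_inv_eq_one, mul_inv_eq_iff_eq_mul] at e; exact e.symm)
    haveI := Fact.mk hqp
    have hzo : orderOf z = q := orderOf_eq_prime (h.hyp.pow_eq_one h.ar hq nq2 hQ z hzQ) hz1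
    -- `z` centralises both
    have hzW : z ∈ Subgroup.centralizer (W : Set G) := by
      rw [Subgroup.mem_centralizer_iff]
      intro y hy
      have h1 : x⁻¹ * y * x ∈ W := by
        have := (Subgroup.mem_normalizer_iff.mp (hWn (inv_mem (core_le q K hx))) y).mp hy
        simpa using this
      have h2' : z * y * z⁻¹ = y := by
        calc z * y * z⁻¹ = c * (x * (c⁻¹ * (x⁻¹ * y * x) * c) * x⁻¹) * c⁻¹ := by rw [hz]; group
          _ = c * y * c⁻¹ := by
            rw [show c⁻¹ * (x⁻¹ * y * x) * c = x⁻¹ * y * x by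
              rw [mul_assoc, ← (hcW _ h1).eq]; group]
            group
          _ = y := by rw [(hcW y hy).eq]; group
      exact (mul_inv_eq_iff_eq_mul.mp h2').symm
    -- a fixed point of `z` and a point of the other group
    obtain ⟨⟨y, hy⟩, hy1⟩ := Subgroup.ne_bot_iff_exists_ne_one.mp hU1
    exact h.hyp.triple h.ar hzo (orderOf_ea (h.ar.prime t htR) hW hw fun e => hw1 (Subtype.ext e))
      (orderOf_ea (h.ar.prime u huR) hU hy fun e => hy1 (Subtype.ext e)) hq htR huR htq.symm huq.symm htu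
      (Subgroup.mem_centralizer_iff.mp hzW w hw).symm (Subgroup.mem_centralizer_iff.mp (hk x hx) y hy).symm
      (hcom w hw y hy)
  obtain ⟨a, ha, ha1⟩ : ∃ a ∈ A, a ≠ 1 := by
    by_contra hn
    push Not at hn
    have : A = ⊥ := (Subgroup.eq_bot_iff_forall _).mpr hn
    rw [this, Subgroup.card_bot] at hAc
    norm_num at hAc
  obtain ⟨b, hb, hbn⟩ : ∃ b ∈ A, b ∉ Subgroup.zpowers a := by
    by_contra hn
    push Not at hn
    have := Subgroup.card_le_of_le (show A ≤ Subgroup.zpowers a from hn)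
    rw [hAc, Nat.card_zpowers, orderOf_ea Nat.prime_two hA ha ha1] at this
    norm_num at this
  have hb1 : b ≠ 1 := fun e => hbn (e ▸ one_mem _)
  have hba : a ≠ b := fun e => hbn (e ▸ Subgroup.mem_zpowers a)
  have hac : a ≠ a * b := fun e => hb1 (left_eq_mul.mp e)
  have hbc : b ≠ a * b := fun e => ha1 (right_eq_mul.mp e)
  have hc1 : a * b ≠ 1 := fun e => hbn (by rw [eq_inv_of_mul_eq_one_right e]; exact inv_mem (Subgroup.mem_zpowers a))
  have hexc : ∀ x : G, orderOf x = 2 → Fix V x → Fix P x → False := fun x hx => h.not_both hx h2 ns2.symm np2.symm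
  have kV := key s V P hs ns2 nsq hexc h.eaV h.nV (h.norV K) ⟨p, hp, np2, npq, nsp, h.eaP⟩ h.nP h.comm h.norm
  have kP := key p P V hp np2 npq (fun x hx u w => hexc x hx w u) h.eaP h.nP h.norm ⟨s, hs, ns2, nsq, nsp.symm, h.eaV⟩
    h.nV (fun w hw v hv => (h.comm v hv w hw).symm) (h.norV K)
  have hcases : ∀ x ∈ A, x ≠ 1 → ¬ Fix V x ∨ ¬ Fix P x := fun x hx hx1 => by
    by_contra hn
    push Not at hn
    exact hexc x (orderOf_ea Nat.prime_two hA hx hx1) hn.1 hn.2
  rcases hcases a ha ha1 with u | u <;> rcases hcases b hb hb1 with v | v <;>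
    rcases hcases (a * b) (mul_mem ha hb) hc1 with w | w
  all_goals first
    | exact kV a ha b hb hba ha1 hb1 u v
    | exact kV a ha (a * b) (mul_mem ha hb) hac ha1 hc1 u w
    | exact kV b hb (a * b) (mul_mem ha hb) hbc hb1 hc1 v w
    | exact kP a ha b hb hba ha1 hb1 u v
    | exact kP a ha (a * b) (mul_mem ha hb) hac ha1 hc1 u w
    | exact kP b hb (a * b) (mul_mem ha hb) hbc hb1 hc1 v w

/-- All cores thin. -/
theorem Pair.thin_false (h : Pair R V P K s p q r) (hq2 : q ≠ 2) (h1 : ¬ Fat q (core q K)) (h2 : ¬ Fat r (core r K)) :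
    False := by
  obtain ⟨hs, hp, hq, hr⟩ := h.mem
  obtain ⟨A, hAK, hA, hAc⟩ := h.fq
  refine h1 ⟨A, fun a ha => absorb K h.solv (h.ar.prime q hq) (hAK ha) (hA.2 a ha) fun t ht hd => ?_, hA, hAc⟩
  have hn := le_normalizer_core t K (hAK ha)
  rcases h.primes t ht hd with rfl | rfl
  · exact h.hyp.thin_cent h.ar hq hq hq2 (core_pgroup _ K) h1 (hA.2 a ha) hn
  · exact h.hyp.thin_cent h.ar hr hq hq2 (core_pgroup _ K) h2 (hA.2 a ha) hn

theorem Pair.false' (h : Pair R V P K s p q r) : False := by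
  by_cases h1 : Fat q (core q K)
  · rcases eq_or_ne r 2 with rfl | hr2
    · exact h.two_false h1
    · exact h.odd_false hr2 h1
  by_cases h2 : Fat r (core r K)
  · rcases eq_or_ne q 2 with rfl | hq2
    · exact h.swap.two_false h2
    · exact h.swap.odd_false hq2 h2
  rcases eq_or_ne q 2 with rfl | hq2
  · exact h.swap.thin_false h.ne.2.2.2.2.2.symm h2 h1
  · exact h.thin_false hq2 h1 h2

end CfsgLib.SzSq
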