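import Cfsg.Agent.Lib.SzSquare.Tools

/-!
A group of three classes acting faithfully on a group of the fourth.
-/

set_option autoImplicit false
set_option linter.unusedSectionVars false

namespace CfsgLib.SzSq

open Subgroup
open scoped Pointwise

universe u

variable {G : Type u} [Group G] [Finite G]

/-- The data of a faithful action. -/
structure Faith (R : Finset ℕ) (V L : Subgroup G) (s : ℕ) : Prop where
  ar : Ar R
  hyp : Hyp R G
  mem : s ∈ R
  eaV : Cfsg.IsElementaryAbelian s V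
  nV : V ≠ ⊥
  normal : V.Normal
  solv : Group.IsSolvable L
  faith : ∀ x ∈ L, x ∈ Subgroup.centralizer (V : Set G) → x = 1
  primes : ∀ t : ℕ, t.Prime → t ∣ Nat.card L → t ∈ R ∧ t ≠ s
  fat : ∀ t ∈ R, t ≠ s → Fat t L

variable {R : Finset ℕ} {V L : Subgroup G} {s : ℕ}

theorem Faith.norV (h : Faith R V L s) (H : Subgroup G) : H ≤ Subgroup.normalizer (V : Set G) := by
  haveI := h.normal
  rw [Subgroup.normalizer_eq_top]
  exact le_top

/-- An element either has fixed points or centralises the groups it normalises. -/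
theorem Faith.dich (h : Faith R V L s) {a : G} {r t : ℕ} (ha : orderOf a = r) (haL : a ∈ L) (hr : r ∈ R) (ht : t ∈ R)
    (hrs : r ≠ s) (hts : t ≠ s) (hrt : r ≠ t) {Q : Subgroup G} (hQL : Q ≤ L) (hQ : IsPGroup t Q)
    (haQ : a ∈ Subgroup.normalizer (Q : Set G)) (hfix : ¬ Fix V a) : a ∈ Subgroup.centralizer (Q : Set G) := by
  have hk := kill ha (h.ar.prime r hr) (h.ar.prime t ht) (h.ar.prime s h.mem) hrt hrs hts
    (fun e => h.ar.fermat r hr (e ▸ hrt)) hQ h.eaV haQ (h.norV L haL) (h.norV Q) hfix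
  rw [Subgroup.mem_centralizer_iff]
  intro u hu
  have hm : a * u * a⁻¹ * u⁻¹ ∈ L := mul_mem (mul_mem (mul_mem haL (hQL hu)) (inv_mem haL)) (inv_mem (hQL hu))
  have := h.faith _ hm (hk u hu)
  rw [mul_inv_eq_one, mul_inv_eq_iff_eq_mul] at this
  exact this.symm

/-- Rank two excludes fixed points. -/
theorem Faith.no_fix (h : Faith R V L s) {a : G} {r t : ℕ} (ha : orderOf a = r) (hr : r ∈ R) (ht : t ∈ R)
    (hrs : r ≠ s) (hts : t ≠ s) (hrt : r ≠ t) {Q : Subgroup G} (hQ : Q ≤ Subgroup.centralizer {a}) (hfat : Fat t Q) :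
    ¬ Fix V a := fun hfix =>
  h.hyp.no_fat_cent h.ar ha hr ht h.mem hrt hrs hts h.eaV.2 hfix hQ (h.norV Q) hfat

theorem mem_centralizer_singleton_of {a : G} {Q : Subgroup G} (h : a ∈ Subgroup.centralizer (Q : Set G)) :
    Q ≤ Subgroup.centralizer {a} := fun u hu =>
  Subgroup.mem_centralizer_singleton_iff.mpr (Subgroup.mem_centralizer_iff.mp h u hu)

/-- Some element of an odd prime centralises a core of rank two. -/
theorem Faith.exists_centraliser (h : Faith R V L s) {p r : ℕ} (hp : p ∈ R) (hps : p ≠ s) (hr : r ∈ R) (hrs : r ≠ s)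
    (hrp : r ≠ p) (hr2 : r ≠ 2) (hfat : Fat p (core p L)) :
    ∃ a ∈ L, orderOf a = r ∧ a ∈ Subgroup.centralizer (core p L : Set G) := by
  by_contra hn
  push Not at hn
  obtain ⟨A, hAL, hA, hAc⟩ := h.fat r hr hrs
  set P := core p L
  have hP : IsPGroup p P := core_pgroup p L
  have hAP : A ≤ Subgroup.normalizer (P : Set G) := hAL.trans (le_normalizer_core p L)
  have hrp' := h.ar.prime r hr
  have hle : P ≤ Subgroup.centralizer (A : Set G) := by
    refine gen_le hrp' hA hAc (not_dvd_of_isPGroup (h.ar.prime p hp) hrp' hrp hP) hAP fun a ha ha1 => ?_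
    have hao : orderOf a = r := orderOf_ea hrp' hA ha ha1
    have hfix : Fix V a := by
      by_contra hf
      exact hn a (hAL ha) hao (h.dich hao (hAL ha) hr hp hrs hps hrp (core_le p L) hP (hAP ha) hf)
    set C := P ⊓ Subgroup.centralizer {a}
    have hthin : ¬ Fat p C := fun hf => h.no_fix hao hr hp hrs hps hrp inf_le_right hf hfix
    intro u hu
    rw [Subgroup.mem_centralizer_iff]
    intro b hb
    haveI := Fact.mk hrp'
    have hbC : b ∈ Subgroup.normalizer (C : Set G) :=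
      Signalizer.inf_normalizes hAP (Signalizer.centralizer_singleton_normalizes hA ha) hb
    have := h.hyp.thin_cent h.ar hp hr hr2 (hP.to_le inf_le_left) hthin (hA.2 b hb) hbC
    exact (Subgroup.mem_centralizer_iff.mp this u hu).symm
  obtain ⟨a, ha, ha1⟩ : ∃ a ∈ A, a ≠ 1 := by
    by_contra hh
    push Not at hh
    rw [(Subgroup.eq_bot_iff_forall _).mpr hh, Subgroup.card_bot] at hAc
    have : 1 < r ^ 2 := Nat.one_lt_pow two_ne_zero hrp'.one_lt
    omega
  exact hn a (hAL ha) (orderOf_ea hrp' hA ha ha1) (Subgroup.le_centralizer_iff.mp hle ha)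

/-- Only one core has rank two. -/
theorem Faith.one_fat (h : Faith R V L s) {p q : ℕ} (hp : p ∈ R) (hps : p ≠ s) (hq : q ∈ R) (hqs : q ≠ s) (hpq : p ≠ q)
    (hfp : Fat p (core p L)) : ¬ Fat q (core q L) := by
  intro hfq
  obtain ⟨B, hB, hBe, hBc⟩ := hfp
  have hpp := h.ar.prime p hp
  obtain ⟨b, hb, hb1, hfix⟩ := gen_fix hpp hBe hBc
    (not_dvd_of_isPGroup (h.ar.prime s h.mem) hpp hps (isPGroup_of_exp h.eaV.2)) (h.norV B) h.nV
  exact h.no_fix (orderOf_ea hpp hBe hb hb1) hp hq hps hqs hpq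
    (fun y hy => Subgroup.mem_centralizer_singleton_iff.mpr
      (core_commute hpp (h.ar.prime q hq) hpq L (hB hb) hy).symm.eq) hfq hfix

/-- All cores thin is impossible. -/
theorem Faith.thin_false (h : Faith R V L s) {q : ℕ} (hq : q ∈ R) (hqs : q ≠ s) (hq2 : q ≠ 2)
    (hthin : ∀ t ∈ R, t ≠ s → ¬ Fat t (core t L)) : False := by
  obtain ⟨A, hAL, hA, hAc⟩ := h.fat q hq hqs
  refine hthin q hq hqs ⟨A, fun a ha => absorb L h.solv (h.ar.prime q hq) (hAL ha) (hA.2 a ha) fun t ht hd => ?_,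
    hA, hAc⟩
  obtain ⟨htR, hts⟩ := h.primes t ht hd
  exact h.hyp.thin_cent h.ar htR hq hq2 (core_pgroup t L) (hthin t htR hts) (hA.2 a ha)
    (le_normalizer_core t L (hAL ha))

/-- An element centralising the core of rank two lies in its own core. -/
theorem Faith.mem_core (h : Faith R V L s) {p r : ℕ} (hp : p ∈ R) (hps : p ≠ s) (hr : r ∈ R)
    (hr2 : r ≠ 2) (hfat : Fat p (core p L)) {a : G} (haL : a ∈ L) (ha : orderOf a = r)
    (hac : a ∈ Subgroup.centralizer (core p L : Set G)) : a ∈ core r L := by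
  refine absorb L h.solv (h.ar.prime r hr) haL (ha ▸ pow_orderOf_eq_one a) fun t ht hd => ?_
  obtain ⟨htR, hts⟩ := h.primes t ht hd
  rcases eq_or_ne t p with rfl | htp
  · exact hac
  exact h.hyp.thin_cent h.ar htR hr hr2 (core_pgroup t L) (h.one_fat hp hps htR hts htp.symm hfat)
    (ha ▸ pow_orderOf_eq_one a) (le_normalizer_core t L haL)

theorem core_ne_bot_commute {p : ℕ} {P : Subgroup G} (hp : p.Prime) (hP : IsPGroup p P) (hfat : Fat p P) :
    ∃ u ∈ P, orderOf u = p := by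
  obtain ⟨A, hA, hAe, hAc⟩ := hfat
  haveI := Fact.mk hp
  obtain ⟨u, hu⟩ := exists_prime_orderOf_dvd_card' (G := A) p (hAc ▸ dvd_pow_self p two_ne_zero)
  exact ⟨u, hA u.2, by rw [Subgroup.orderOf_coe, hu]⟩

/-- The two core cannot have rank two. -/
theorem Faith.two_false (h : Faith R V L s) {q r : ℕ} (h2s : 2 ≠ s) (hq : q ∈ R) (hqs : q ≠ s) (hq2 : q ≠ 2)
    (hr : r ∈ R) (hrs : r ≠ s) (hr2 : r ≠ 2) (hqr : q ≠ r) (hfat : Fat 2 (core 2 L)) : False := by
  obtain ⟨a, haL, ha, hac⟩ := h.exists_centraliser h.ar.two h2s hq hqs hq2 hq2 hfat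
  obtain ⟨b, hbL, hb, hbc⟩ := h.exists_centraliser h.ar.two h2s hr hrs hr2 hr2 hfat
  obtain ⟨u, hu, huo⟩ := core_ne_bot_commute Nat.prime_two (core_pgroup 2 L) hfat
  exact h.hyp.triple h.ar ha hb huo hq hr h.ar.two hqr hq2 hr2
    (core_commute (h.ar.prime q hq) (h.ar.prime r hr) hqr L (h.mem_core h.ar.two h2s hq hq2 hfat haL ha hac)
      (h.mem_core h.ar.two h2s hr hr2 hfat hbL hb hbc))
    (Subgroup.mem_centralizer_iff.mp hac u hu).symm (Subgroup.mem_centralizer_iff.mp hbc u hu).symm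

/-- A group of rank two and order `p²` with a coprime operator. -/
theorem cent_sq {p r : ℕ} (hp : p.Prime) (hr : r.Prime) (h1 : ¬ r ∣ p - 1) (h2 : ¬ r ∣ p + 1) (hpr : p ≠ r)
    {P : Subgroup G} (hP : Nat.card P = p ^ 2) {a : G} (ha : a ^ r = 1) (haP : a ∈ Subgroup.normalizer (P : Set G)) :
    a ∈ Subgroup.centralizer (P : Set G) := by
  haveI := Fact.mk hr
  set X := Subgroup.zpowers a
  set φ := QGroupModule.conjAut X P (Subgroup.zpowers_le.mpr haP)
  letI : MulAction X P := MulAction.compHom P φ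
  have hX : IsPGroup r X := by
    rintro ⟨_, i, rfl⟩
    exact ⟨1, Subtype.ext (by simp only [pow_one, SubmonoidClass.coe_pow]; rw [← zpow_natCast, ← zpow_mul, mul_comm,
      zpow_mul, zpow_natCast, ha, one_zpow]; rfl)⟩
  have hmod := hX.card_modEq_card_fixedPoints P
  set C := P ⊓ Subgroup.centralizer {a}
  have hfix : Nat.card (MulAction.fixedPoints X P) = Nat.card C := by
    refine Nat.card_congr ⟨fun u => ⟨(u.1 : G), u.1.2, ?_⟩, fun u => ⟨⟨u.1, u.2.1⟩, ?_⟩, fun u => rfl, fun u => rfl⟩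
    · have h := congrArg Subtype.val (u.2 ⟨a, Subgroup.mem_zpowers a⟩)
      change ((φ ⟨a, Subgroup.mem_zpowers a⟩) u.1 : G) = u.1 at h
      rw [QGroupModule.conjAut_apply] at h
      exact Subgroup.mem_centralizer_singleton_iff.mpr (mul_inv_eq_iff_eq_mul.mp h).symm
    · rintro ⟨_, i, rfl⟩
      apply Subtype.ext
      change ((φ ⟨a ^ i, _⟩) _ : G) = (u : G)
      rw [QGroupModule.conjAut_apply]
      show a ^ i * (u : G) * (a ^ i)⁻¹ = u
      rw [((show Commute a (u : G) from (Subgroup.mem_centralizer_singleton_iff.mp u.2.2).symm).zpow_left i).eq,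
        mul_inv_cancel_right]
  rw [hP, hfix] at hmod
  obtain ⟨k, hk, hC⟩ := (Nat.dvd_prime_pow hp).mp (hP ▸ Subgroup.card_dvd_of_le (inf_le_left : C ≤ P))
  rw [hC] at hmod
  have hp1 := hp.one_lt
  interval_cases k
  · exfalso
    have h3 := (Nat.modEq_iff_dvd' (Nat.one_le_pow 2 p hp.pos)).mp hmod.symm
    rw [show p ^ 2 - 1 = (p + 1) * (p - 1) by rw [← Nat.sq_sub_sq, one_pow]] at h3
    rcases hr.dvd_mul.mp h3 with h' | h'
    · exact h2 h'
    · exact h1 h'
  · exfalso
    have h3 := (Nat.modEq_iff_dvd' (by rw [pow_one, pow_two]; exact Nat.le_mul_of_pos_left p hp.pos)).mp hmod.symm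
    rw [show p ^ 2 - p ^ 1 = p * (p - 1) by rw [pow_one, pow_two, Nat.mul_sub, mul_one]] at h3
    rcases hr.dvd_mul.mp h3 with h' | h'
    · exact hpr ((Nat.prime_dvd_prime_iff_eq hr hp).mp h').symm
    · exact h1 h'
  · have : C = P := Subgroup.eq_of_le_of_card_ge inf_le_left (by rw [hC, hP])
    rw [Subgroup.mem_centralizer_iff]
    intro u hu
    exact Subgroup.mem_centralizer_singleton_iff.mp (this ▸ hu : u ∈ C).2

/-- An odd core cannot have rank two. -/
theorem Faith.odd_false (h : Faith R V L s) {p r : ℕ} (h2s : 2 ≠ s) (hp : p ∈ R) (hps : p ≠ s) (hp2 : p ≠ 2)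
    (hr : r ∈ R) (hrs : r ≠ s) (hr2 : r ≠ 2) (hpr : p ≠ r) (hfat : Fat p (core p L)) : False := by
  have hrp' := h.ar.prime r hr
  have hpp := h.ar.prime p hp
  set P := core p L
  set D := core r L
  obtain ⟨d, hdL, hdo, hdc⟩ := h.exists_centraliser hp hps hr hrs hpr.symm hr2 hfat
  have hdD : d ∈ D := h.mem_core hp hps hr hr2 hfat hdL hdo hdc
  have hd1 : d ≠ 1 := fun e => by rw [e, orderOf_one] at hdo; exact hrp'.ne_one hdo.symm
  have hDp : IsPGroup r D := core_pgroup r L
  have hD1 : D ≠ ⊥ := fun e => hd1 ((Subgroup.eq_bot_iff_forall _).mp e d hdD)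
  have hDthin : ¬ Fat r D := h.one_fat hp hps hr hrs hpr hfat
  have hDc : Nat.card D = r := thin_card hrp' (h.hyp.pow_eq_one h.ar hr hr2 hDp) hDthin hD1
  have hDz : D = Subgroup.zpowers d :=
    (Subgroup.eq_of_le_of_card_ge (Subgroup.zpowers_le.mpr hdD) (by rw [hDc, Nat.card_zpowers, hdo])).symm
  obtain ⟨u0, hu0, hu0o⟩ := core_ne_bot_commute hpp (core_pgroup p L) hfat
  have hPd : P ≤ Subgroup.centralizer {d} := mem_centralizer_singleton_of hdc
  have hfixd : ¬ Fix V d := h.no_fix hdo hr hp hrs hps hpr.symm hPd hfat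
  -- nothing outside centralises both cores
  have htwo : ∀ c ∈ L, orderOf c = 2 → c ∈ Subgroup.centralizer (P : Set G) → Commute c d → False := by
    intro c hcL hco hcP hcd
    exact h.hyp.triple h.ar hco hu0o hdo h.ar.two hp hr hp2.symm hr2.symm hpr
      (Subgroup.mem_centralizer_iff.mp hcP u0 hu0).symm hcd (Subgroup.mem_centralizer_singleton_iff.mp (hPd hu0))
  obtain ⟨A, hAL, hA, hAc⟩ := h.fat 2 h.ar.two h2s
  have o2 : ∀ a ∈ A, a * a = 1 := fun a ha => by rw [← pow_two]; exact hA.2 a ha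
  have hAD : ∀ a ∈ A, Commute a d ∨ a * d * a⁻¹ = d⁻¹ := by
    intro a ha
    have hn := le_normalizer_core r L (hAL ha)
    have hmem : a * d * a⁻¹ ∈ D := (Subgroup.mem_normalizer_iff.mp hn d).mp hdD
    obtain ⟨i, hi⟩ := Subgroup.mem_zpowers_iff.mp (hDz ▸ hmem)
    set w := d * (a * d * a⁻¹) with hw
    have hai : a⁻¹ = a := inv_eq_of_mul_eq_one_right (o2 a ha)
    have hwa : a * w * a⁻¹ = w := by
      have e : a * w * a⁻¹ = (a * d * a⁻¹) * ((a * a) * d * (a * a)⁻¹) := by
        rw [hw]; group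
      rw [e, o2 a ha, one_mul, inv_one, mul_one, hw, ← hi]
      exact ((Commute.refl d).zpow_left i).eq
    by_cases hw1 : w = 1
    · exact Or.inr (inv_eq_of_mul_eq_one_right hw1).symm
    · left
      have hwD : w ∈ D := mul_mem hdD hmem
      have : Subgroup.zpowers w = D := by
        refine Subgroup.eq_of_le_of_card_ge (Subgroup.zpowers_le.mpr hwD) ?_
        haveI := Fact.mk hrp'
        rw [hDc, Nat.card_zpowers, orderOf_eq_prime (h.hyp.pow_eq_one h.ar hr hr2 hDp w hwD) hw1]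
      obtain ⟨j, hj⟩ := Subgroup.mem_zpowers_iff.mp (this ▸ hdD : d ∈ Subgroup.zpowers w)
      rw [← hj]
      exact (show Commute a w from mul_inv_eq_iff_eq_mul.mp hwa).zpow_right j
  obtain ⟨a, ha, ha1, had⟩ : ∃ a ∈ A, a ≠ 1 ∧ Commute a d := by
    by_contra hn
    push Not at hn
    obtain ⟨a, ha, ha1⟩ : ∃ a ∈ A, a ≠ 1 := by
      by_contra hh
      push Not at hh
      rw [(Subgroup.eq_bot_iff_forall _).mpr hh, Subgroup.card_bot] at hAc
      norm_num at hAc
    obtain ⟨b, hb, hbn⟩ : ∃ b ∈ A, b ∉ Subgroup.zpowers a := by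
      by_contra hh
      push Not at hh
      have := Subgroup.card_le_of_le (show A ≤ Subgroup.zpowers a from hh)
      rw [hAc, Nat.card_zpowers, orderOf_ea Nat.prime_two hA ha ha1] at this
      norm_num at this
    have hb1 : b ≠ 1 := fun e => hbn (e ▸ one_mem _)
    have hc1 : a * b ≠ 1 := fun e => hbn (by rw [eq_inv_of_mul_eq_one_right e]; exact inv_mem (Subgroup.mem_zpowers a))
    refine hn (a * b) (mul_mem ha hb) hc1 (mul_inv_eq_iff_eq_mul.mp ?_)
    calc a * b * d * (a * b)⁻¹ = a * (b * d * b⁻¹) * a⁻¹ := by group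
      _ = (a * d * a⁻¹)⁻¹ := by rw [(hAD b hb).resolve_left (hn b hb hb1)]; group
      _ = d := by rw [(hAD a ha).resolve_left (hn a ha ha1), inv_inv]
  have hao : orderOf a = 2 := orderOf_ea Nat.prime_two hA ha ha1
  have haP := le_normalizer_core p L (hAL ha)
  have hPnf : ¬ Fix P a := by
    rintro ⟨u, hu, hu1, hau⟩
    haveI := Fact.mk hpp
    exact h.hyp.triple h.ar hao (orderOf_eq_prime (h.hyp.pow_eq_one h.ar hp hp2 (core_pgroup p L) u hu) hu1) hdo
      h.ar.two hp hr hp2.symm hr2.symm hpr hau had (Subgroup.mem_centralizer_singleton_iff.mp (hPd hu))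
  have hinv := inverts (o2 a ha) haP hPnf
  have hcomm : ∀ u ∈ P, ∀ w ∈ P, Commute u w := by
    intro u hu w hw
    have h1 := hinv (u * w) (mul_mem hu hw)
    have h2 : a * (u * w) * a⁻¹ = u⁻¹ * w⁻¹ := by
      calc a * (u * w) * a⁻¹ = (a * u * a⁻¹) * (a * w * a⁻¹) := by group
        _ = _ := by rw [hinv u hu, hinv w hw]
    rw [h1, mul_inv_rev] at h2
    show u * w = w * u
    have := congrArg (fun x => x⁻¹) h2
    simpa using this
  obtain ⟨b, hb, hbn⟩ : ∃ b ∈ A, b ∉ Subgroup.zpowers a := by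
    by_contra hh
    push Not at hh
    have := Subgroup.card_le_of_le (show A ≤ Subgroup.zpowers a from hh)
    rw [hAc, Nat.card_zpowers, hao] at this
    norm_num at this
  have hb1 : b ≠ 1 := fun e => hbn (e ▸ one_mem _)
  have hab1 : a * b ≠ 1 := fun e => hbn (by rw [eq_inv_of_mul_eq_one_right e]; exact inv_mem (Subgroup.mem_zpowers a))
  -- the other involutions invert `d`
  have hbd : ¬ Commute b d := by
    intro hbd
    by_cases hbf : Fix P b
    · obtain ⟨u, hu, hu1, hbu⟩ := hbf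
      haveI := Fact.mk hpp
      exact h.hyp.triple h.ar (orderOf_ea Nat.prime_two hA hb hb1)
        (orderOf_eq_prime (h.hyp.pow_eq_one h.ar hp hp2 (core_pgroup p L) u hu) hu1) hdo h.ar.two hp hr hp2.symm
        hr2.symm hpr hbu hbd (Subgroup.mem_centralizer_singleton_iff.mp (hPd hu))
    refine htwo (a * b) (hAL (mul_mem ha hb)) (orderOf_ea Nat.prime_two hA (mul_mem ha hb) hab1) ?_ (had.mul_left hbd)
    rw [Subgroup.mem_centralizer_iff]
    intro u hu
    have hib := inverts (o2 b hb) (le_normalizer_core p L (hAL hb)) hbf u hu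
    have : a * b * u * (a * b)⁻¹ = u := by
      calc a * b * u * (a * b)⁻¹ = a * (b * u * b⁻¹) * a⁻¹ := by group
        _ = u := by rw [hib, hinv _ (inv_mem hu), inv_inv]
    exact (mul_inv_eq_iff_eq_mul.mp this).symm
  have hfixc : ∀ c ∈ A, c ≠ 1 → ¬ Commute c d → Fix V c := by
    intro c hc hc1 hcd
    by_contra hf
    exact hcd (Subgroup.mem_centralizer_iff.mp (h.dich (orderOf_ea Nat.prime_two hA hc hc1) (hAL hc) h.ar.two hr h2s hrs
      hr2.symm (core_le r L) hDp (le_normalizer_core r L (hAL hc)) hf) d hdD).symm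
  have habd : ¬ Commute (a * b) d := fun hc => hbd (by
    have := had.inv_left.mul_left hc
    rwa [inv_mul_cancel_left] at this)
  have hsmall : ∀ c ∈ A, c ≠ 1 → ¬ Commute c d → Nat.card (P ⊓ Subgroup.centralizer {c} : Subgroup G) ≤ p := by
    intro c hc hc1 hcd
    by_cases hbot : P ⊓ Subgroup.centralizer {c} = ⊥
    · rw [hbot, Subgroup.card_bot]; exact hpp.pos
    refine (thin_card hpp (K := P ⊓ Subgroup.centralizer {c}) (fun u hu => h.hyp.pow_eq_one h.ar hp hp2 (core_pgroup p L) u hu.1) ?_ hbot).le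
    exact fun hf => h.no_fix (orderOf_ea Nat.prime_two hA hc hc1) h.ar.two hp h2s hps hp2.symm inf_le_right hf
      (hfixc c hc hc1 hcd)
  set M := (P ⊓ Subgroup.centralizer {b}) ⊔ (P ⊓ Subgroup.centralizer {a * b})
  have hPM : P ≤ M := by
    refine gen_le Nat.prime_two hA hAc (not_dvd_of_isPGroup hpp Nat.prime_two hp2.symm (core_pgroup p L))
      (hAL.trans (le_normalizer_core p L)) fun c hc hc1 => ?_
    by_cases hca : c = a
    · subst hca
      intro u hu
      by_cases hu1 : u = 1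
      · rw [hu1]; exact one_mem _
      exact absurd ⟨u, hu.1, hu1, (Subgroup.mem_centralizer_singleton_iff.mp hu.2).symm⟩ hPnf
    have hab : c = b ∨ c = a * b := by
      by_contra hn
      push Not at hn
      classical
      haveI : Fintype A := Fintype.ofFinite A
      have hd' : ({⟨1, one_mem A⟩, ⟨a, ha⟩, ⟨b, hb⟩, ⟨a * b, mul_mem ha hb⟩, ⟨c, hc⟩} : Finset A).card = 5 := by
        have hba : a ≠ b := fun e => hbn (e ▸ Subgroup.mem_zpowers a)
        have h1 : a ≠ a * b := fun e => hb1 (left_eq_mul.mp e)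
        have h2 : b ≠ a * b := fun e => ha1 (right_eq_mul.mp e)
        simp [Subtype.ext_iff, ha1.symm, hb1.symm, hab1.symm, hc1.symm, hba, h1, h2, Ne.symm hca, Ne.symm hn.1,
          Ne.symm hn.2]
      have := Finset.card_le_univ ({⟨1, one_mem A⟩, ⟨a, ha⟩, ⟨b, hb⟩, ⟨a * b, mul_mem ha hb⟩, ⟨c, hc⟩} : Finset A)
      rw [hd', ← Nat.card_eq_fintype_card, hAc] at this
      norm_num at this
    rcases hab with rfl | rfl
    · exact le_sup_left
    · exact le_sup_right
  have hle : Nat.card P ≤ p * p := by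
    have h1 : ((M : Subgroup G) : Set G) =
        ((P ⊓ Subgroup.centralizer {b} : Subgroup G) : Set G) * ((P ⊓ Subgroup.centralizer {a * b} : Subgroup G) : Set G) :=
      Subgroup.coe_mul_of_left_le_normalizer_right _ _ (fun u hu => Subgroup.centralizer_le_normalizer
        (s := ((P ⊓ Subgroup.centralizer {a * b} : Subgroup G) : Set G)) (Subgroup.mem_centralizer_iff.mpr fun w hw => (hcomm w hw.1 u hu.1).eq))
    have h2 : Nat.card M ≤ p * p := by
      change Nat.card ((M : Subgroup G) : Set G) ≤ _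
      rw [h1]
      exact Set.natCard_mul_le.trans (Nat.mul_le_mul (hsmall b hb hb1 hbd) (hsmall (a * b) (mul_mem ha hb) hab1 habd))
    exact (Subgroup.card_le_of_le hPM).trans h2
  have hP2 : Nat.card P = p ^ 2 := by
    obtain ⟨B, hB, -, hBc⟩ := hfat
    have := Subgroup.card_le_of_le hB
    rw [pow_two] at hBc ⊢
    omega
  -- an operator of order `r` with fixed points
  obtain ⟨B, hBL, hB, hBc⟩ := h.fat r hr hrs
  obtain ⟨e, he, he1, hef⟩ := gen_fix hrp' hB hBc
    (not_dvd_of_isPGroup (h.ar.prime s h.mem) hrp' hrs (isPGroup_of_exp h.eaV.2)) (h.norV B) h.nV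
  obtain ⟨n1, n2⟩ := h.ar.sub r hr hr2 p hp hp2 hpr
  have hec := cent_sq hpp hrp' n1 n2 hpr hP2 (hB.2 e he) (le_normalizer_core p L (hBL he))
  exact h.no_fix (orderOf_ea hrp' hB he he1) hr hp hrs hps hpr.symm (mem_centralizer_singleton_of hec) hfat hef

end CfsgLib.SzSq
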