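import Cfsg.Agent.Lib.SzSquare.Basics
import Cfsg.Agent.Lib.Suzuki.Partition
import Cfsg.Agent.Lib.Suzuki.Aut
import Cfsg.Agent.Lib.Suzuki.Lie

/-!
Element orders of the square of the Suzuki group over the field of order 128.
-/

set_option autoImplicit false
set_option linter.unusedSectionVars false

namespace CfsgLib.SzSq

universe u v

/-- The four primes. -/
def R4 : Finset ℕ := {2, 29, 113, 127}

/-- The maximal orders of elements of `Sz(128)`. -/
def tops : Finset ℕ := {4, 127, 145, 113}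

theorem ar_R4 : Ar R4 := by
  refine ⟨by decide, ?_, by decide, by decide, ?_, by decide⟩
  · intro p hp
    simp only [R4, Finset.mem_insert, Finset.mem_singleton] at hp
    rcases hp with rfl | rfl | rfl | rfl <;> norm_num
  · intro r hr hr2 n e
    simp only [R4, Finset.mem_insert, Finset.mem_singleton] at hr
    have hb : ∀ m : ℕ, m < 8 → r ≠ 2 ^ m + 1 := by
      intro m hm
      interval_cases m <;> rcases hr with rfl | rfl | rfl | rfl <;> first | (exact absurd rfl hr2) | norm_num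
    rcases Nat.lt_or_ge n 8 with h | h
    · exact hb n h e
    · have := Nat.pow_le_pow_right (show 0 < 2 by norm_num) h
      rcases hr with rfl | rfl | rfl | rfl <;> omega

variable {F : Type u} [Field F] [Fintype F]

theorem sz_orderOf_dvd (hF : Fintype.card F = 2 ^ (2 * 3 + 1)) (z : ↥(Cfsg.Sz F 3)) :
    ∃ n ∈ tops, orderOf z ∣ n := by
  by_cases hz : z = 1
  · exact ⟨4, by decide, by simp [hz]⟩
  obtain ⟨Ap, Am, -, hAp, -, -, -, hAm, -, -, hall⟩ := Suzuki.classify hF (by norm_num)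
  rcases hall z hz with h | h | h | h
  · obtain ⟨-, k, hk⟩ := h
    obtain ⟨a, b, hab⟩ := (Suzuki.mem_U hF).mp hk
    refine ⟨4, by decide, ?_⟩
    have ho : orderOf (Suzuki.uS hF a b) = orderOf z := by
      rw [← hab]
      simpa using MulEquiv.orderOf_eq (MulAut.conj k⁻¹) z
    rw [← ho]
    refine orderOf_dvd_of_pow_eq_one ?_
    haveI := Suzuki.charTwo hF
    have h2 : Suzuki.uS hF a b * Suzuki.uS hF a b = Suzuki.uS hF 0 (Suzuki.th 3 a * a) := by
      rw [Suzuki.uS_mul, CharTwo.add_self_eq_zero, CharTwo.add_self_eq_zero, zero_add]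
    calc Suzuki.uS hF a b ^ 4 = (Suzuki.uS hF a b * Suzuki.uS hF a b) * (Suzuki.uS hF a b * Suzuki.uS hF a b) :=
          (pow_add (Suzuki.uS hF a b) 2 2).trans (by rw [pow_two])
      _ = 1 := by
        rw [h2, Suzuki.uS_mul, mul_zero, add_zero, add_zero, CharTwo.add_self_eq_zero, Suzuki.uS_zero]
  · have h' := Suzuki.orderOf_dvd_of_conjSet _ h
    rw [Suzuki.card_T] at h'
    exact ⟨127, by decide, h'⟩
  · have h' := Suzuki.orderOf_dvd_of_conjSet _ h
    rw [hAp] at h'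
    exact ⟨145, by decide, h'⟩
  · have h' := Suzuki.orderOf_dvd_of_conjSet _ h
    rw [hAm] at h'
    exact ⟨113, by decide, h'⟩

theorem lie_orderOf_dvd (hF : Fintype.card F = 2 ^ 7) (z : ↥(Cfsg.Lie.Sz F (2 ^ 4))) :
    ∃ n ∈ tops, orderOf z ∣ n := by
  have hF' : Fintype.card F = 2 ^ (2 * 3 + 1) := hF
  obtain ⟨n, hn, hd⟩ := sz_orderOf_dvd hF' ((Suzuki.lieEquiv hF' (by norm_num)).symm z)
  rw [MulEquiv.orderOf_eq] at hd
  exact ⟨n, hn, hd⟩

theorem card_lie (hF : Fintype.card F = 2 ^ 7) :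
    Nat.card ↥(Cfsg.Lie.Sz F (2 ^ 4)) = 2 ^ 14 * 5 * 29 * 113 * 127 := by
  have hF' : Fintype.card F = 2 ^ (2 * 3 + 1) := hF
  rw [← Nat.card_congr (Suzuki.lieEquiv hF' (m := 3) (by norm_num)).toEquiv, Suzuki.card_Sz hF' (by norm_num)]
  norm_num

/-- What is used about the orders of elements. -/
structure Spec (G : Type v) [Group G] : Prop where
  dvd : ∀ g : G, ∃ a ∈ tops, ∃ b ∈ tops, orderOf g ∣ Nat.lcm a b
  pairs : ∀ p ∈ R4, ∀ q ∈ R4, p ≠ q → ∃ g : G, orderOf g = p * q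

theorem spec_of_range {G : Type v} [Group G] (hF : Fintype.card F = 2 ^ 7)
    (h : Set.range (orderOf : G → ℕ) =
      Set.range (orderOf : Cfsg.Lie.Sz F (2 ^ 4) × Cfsg.Lie.Sz F (2 ^ 4) → ℕ)) : Spec G := by
  refine ⟨fun g => ?_, fun p hp q hq hpq => ?_⟩
  · obtain ⟨⟨x, y⟩, hxy⟩ := (Set.ext_iff.mp h (orderOf g)).mp ⟨g, rfl⟩
    obtain ⟨a, ha, hx⟩ := lie_orderOf_dvd hF x
    obtain ⟨b, hb, hy⟩ := lie_orderOf_dvd hF y
    refine ⟨a, ha, b, hb, ?_⟩
    rw [← hxy, Prod.orderOf_mk]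
    exact Nat.lcm_dvd (hx.trans (Nat.dvd_lcm_left a b)) (hy.trans (Nat.dvd_lcm_right a b))
  · have hd : ∀ r ∈ R4, r ∣ Nat.card ↥(Cfsg.Lie.Sz F (2 ^ 4)) := by
      intro r hr
      rw [card_lie hF]
      simp only [R4, Finset.mem_insert, Finset.mem_singleton] at hr
      rcases hr with rfl | rfl | rfl | rfl <;> norm_num
    haveI := Fact.mk (ar_R4.prime p hp)
    haveI := Fact.mk (ar_R4.prime q hq)
    obtain ⟨x, hx⟩ := exists_prime_orderOf_dvd_card' p (hd p hp)
    obtain ⟨y, hy⟩ := exists_prime_orderOf_dvd_card' q (hd q hq)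
    obtain ⟨g, hg⟩ := (Set.ext_iff.mp h (p * q)).mpr ⟨(x, y), by
      rw [Prod.orderOf_mk, hx, hy]
      exact Nat.Coprime.lcm_eq_mul ((Nat.coprime_primes (ar_R4.prime p hp) (ar_R4.prime q hq)).mpr hpq)⟩
    exact ⟨g, hg⟩

variable {G : Type v} [Group G]

/-- Element orders divide those of the square. -/
def Bounded (G : Type v) [Group G] : Prop := ∀ g : G, ∃ a ∈ tops, ∃ b ∈ tops, orderOf g ∣ Nat.lcm a b

theorem Bounded.hyp (h : Bounded G) : Hyp R4 G := by
  have key : ∀ a ∈ tops, ∀ b ∈ tops, ¬ 8 ∣ Nat.lcm a b ∧ (∀ p ∈ R4, p ≠ 2 → ¬ p ^ 2 ∣ Nat.lcm a b) ∧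
      (R4.filter (· ∣ Nat.lcm a b)).card ≤ 2 := by
    decide +kernel
  refine ⟨fun x e => ?_, fun x p hp hp2 e => ?_, fun x p hp q hq r hr hpq hpr hqr d1 d2 d3 => ?_⟩
  · obtain ⟨a, ha, b, hb, hd⟩ := h x
    exact (key a ha b hb).1 (e ▸ hd)
  · obtain ⟨a, ha, b, hb, hd⟩ := h x
    exact (key a ha b hb).2.1 p hp hp2 (e ▸ hd)
  · obtain ⟨a, ha, b, hb, hd⟩ := h x
    have hsub : ({p, q, r} : Finset ℕ) ⊆ R4.filter (· ∣ Nat.lcm a b) := by
      intro t ht
      simp only [Finset.mem_insert, Finset.mem_singleton] at ht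
      rw [Finset.mem_filter]
      rcases ht with rfl | rfl | rfl
      · exact ⟨hp, d1.trans hd⟩
      · exact ⟨hq, d2.trans hd⟩
      · exact ⟨hr, d3.trans hd⟩
    have := Finset.card_le_card hsub
    rw [Finset.card_eq_three.mpr ⟨p, q, r, hpq, hpr, hqr, rfl⟩] at this
    have := (key a ha b hb).2.2
    omega

theorem Bounded.prime_mem [Finite G] (h : Bounded G) {p : ℕ} (hp : p.Prime) (hd : p ∣ Nat.card G) :
    p ∈ ({2, 5, 29, 113, 127} : Finset ℕ) := by
  haveI := Fact.mk hp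
  obtain ⟨g, hg⟩ := exists_prime_orderOf_dvd_card' p hd
  obtain ⟨a, ha, b, hb, hgd⟩ := h g
  rw [hg] at hgd
  have key : ∀ a ∈ tops, ∀ b ∈ tops, Nat.lcm a b ∣ 4 * 5 * 29 * 113 * 127 := by decide +kernel
  have hd' := hgd.trans (key a ha b hb)
  simp only [Finset.mem_insert, Finset.mem_singleton]
  have h5 : ∀ q : ℕ, q.Prime → p ∣ q → p = q := fun q hq h => (Nat.prime_dvd_prime_iff_eq hp hq).mp h
  rcases hp.dvd_mul.mp hd' with hd' | hd'
  · rcases hp.dvd_mul.mp hd' with hd' | hd'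
    · rcases hp.dvd_mul.mp hd' with hd' | hd'
      · rcases hp.dvd_mul.mp hd' with hd' | hd'
        · exact Or.inl (h5 2 Nat.prime_two (hp.dvd_of_dvd_pow (show p ∣ 2 ^ 2 from hd')))
        · exact Or.inr (Or.inl (h5 5 (by norm_num) hd'))
      · exact Or.inr (Or.inr (Or.inl (h5 29 (by norm_num) hd')))
    · exact Or.inr (Or.inr (Or.inr (Or.inl (h5 113 (by norm_num) hd'))))
  · exact Or.inr (Or.inr (Or.inr (Or.inr (h5 127 (by norm_num) hd'))))

theorem Bounded.not_three_dvd [Finite G] (h : Bounded G) : ¬ 3 ∣ Nat.card G := fun hd => by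
  have := h.prime_mem Nat.prime_three hd
  revert this
  decide

theorem Bounded.not_seven_dvd [Finite G] (h : Bounded G) : ¬ 7 ∣ Nat.card G := fun hd => by
  have := h.prime_mem (by norm_num) hd
  revert this
  decide

theorem Bounded.of_hom {H : Type*} [Group H] (h : Bounded G) (f : G →* H) (hf : Function.Surjective f) :
    Bounded H := fun x => by
  obtain ⟨g, rfl⟩ := hf x
  obtain ⟨a, ha, b, hb, hd⟩ := h g
  exact ⟨a, ha, b, hb, (orderOf_map_dvd f g).trans hd⟩

theorem Bounded.subgroup (h : Bounded G) (K : Subgroup G) : Bounded K := fun x => by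
  rw [← Subgroup.orderOf_coe]
  exact h x

end CfsgLib.SzSq
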