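import Cfsg.Agent.Lib.SzSquare.Onto
import Cfsg.Agent.Lib.FrobAction.Order

/-!
An odd prime dividing the soluble radical only once.
-/

set_option autoImplicit false
set_option linter.unusedSectionVars false

namespace CfsgLib.SzSq

open Subgroup
open scoped commutatorElement Pointwise

universe u w

variable {G : Type u} [Group G] [Finite G]
variable {F : Type w} [Field F] [Fintype F] (hF : Fintype.card F = 2 ^ (2 * 3 + 1))
include hF
variable (π : G →* ↥(Cfsg.Sz F 3))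

theorem map_top_of_sup (hsurj : Function.Surjective π) {N K : Subgroup G} (hK : K ≤ π.ker) (h : N ⊔ K = ⊤) :
    N.map π = ⊤ := by
  have h1 : (N ⊔ K).map π = ⊤ := by rw [h, Subgroup.map_top_of_surjective π hsurj]
  rwa [Subgroup.map_sup, (Subgroup.map_eq_bot_iff K).mpr hK, sup_bot_eq] at h1

/-- The centraliser of a normalised cyclic group still covers the quotient. -/
theorem cent_onto {y : G} {N : Subgroup G} (hN : N.map π = ⊤)
    (hNn : N ≤ Subgroup.normalizer (Subgroup.zpowers y : Set G)) :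
    (N ⊓ Subgroup.centralizer ({y} : Set G)).map π = ⊤ := by
  rw [← top_le_iff, ← Suzuki.perfect hF (by norm_num : 1 ≤ 3), commutator_def, Subgroup.commutator_le]
  intro a _ b _
  obtain ⟨a', ha', rfl⟩ := (hN.symm ▸ Subgroup.mem_top a : a ∈ N.map π)
  obtain ⟨b', hb', rfl⟩ := (hN.symm ▸ Subgroup.mem_top b : b ∈ N.map π)
  refine ⟨⁅a', b'⁆, ⟨?_, ?_⟩, map_commutatorElement π a' b'⟩
  · show ⁅a', b'⁆ ∈ N
    rw [commutatorElement_def]
    exact mul_mem (mul_mem (mul_mem ha' hb') (inv_mem ha')) (inv_mem hb')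
  have key : ∀ A ∈ N, ∀ B ∈ N, Commute ((B * A)⁻¹ * (A * B)) y := by
    intro A hA B hB
    obtain ⟨i, hi⟩ := Subgroup.mem_zpowers_iff.mp
      ((Subgroup.mem_normalizer_iff.mp (hNn hA) y).mp (Subgroup.mem_zpowers y))
    obtain ⟨j, hj⟩ := Subgroup.mem_zpowers_iff.mp
      ((Subgroup.mem_normalizer_iff.mp (hNn hB) y).mp (Subgroup.mem_zpowers y))
    have hab : A * B * y * (A * B)⁻¹ = B * A * y * (B * A)⁻¹ := by
      calc A * B * y * (A * B)⁻¹ = A * (B * y * B⁻¹) * A⁻¹ := by group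
        _ = (A * y * A⁻¹) ^ j := by rw [← hj, conj_zpow]
        _ = (B * y * B⁻¹) ^ i := by rw [← hi, ← hj, ← zpow_mul, ← zpow_mul, mul_comm]
        _ = B * (A * y * A⁻¹) * B⁻¹ := by rw [← hi, conj_zpow]
        _ = B * A * y * (B * A)⁻¹ := by group
    show (B * A)⁻¹ * (A * B) * y = y * ((B * A)⁻¹ * (A * B))
    calc (B * A)⁻¹ * (A * B) * y = (B * A)⁻¹ * (A * B * y * (A * B)⁻¹) * (A * B) := by group
      _ = y * ((B * A)⁻¹ * (A * B)) := by rw [hab]; group
  show ⁅a', b'⁆ ∈ Subgroup.centralizer ({y} : Set G)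
  rw [Subgroup.mem_centralizer_singleton_iff, commutatorElement_def]
  have h := (key a'⁻¹ (inv_mem ha') b'⁻¹ (inv_mem hb')).eq
  simpa [mul_assoc] using h

/-- The three odd primes. -/
theorem odd_cases {r : ℕ} (hr : r = 29 ∨ r = 113) :
    ∃ p s : ℕ, p ∈ R4 ∧ s ∈ R4 ∧ p ≠ 2 ∧ s ≠ 2 ∧ p ≠ r ∧ s ≠ r ∧ p ≠ s ∧
      ({29, 113, 127} : Finset ℕ) = {r, p, s} := by
  rcases hr with rfl | rfl
  · exact ⟨113, 127, by decide, by decide, by norm_num, by norm_num, by norm_num, by norm_num, by norm_num, rfl⟩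
  · exact ⟨29, 127, by decide, by decide, by norm_num, by norm_num, by norm_num, by norm_num, by norm_num,
      by decide⟩

theorem single_prime_false (hB : Bounded G) (hsurj : Function.Surjective π) (hK : Group.IsSolvable π.ker) {r : ℕ}
    (hr : r = 29 ∨ r = 113) (hr1 : r ∣ Nat.card π.ker) (hr2 : ¬ r ^ 2 ∣ Nat.card π.ker)
    (hall : ∀ t ∈ ({29, 113, 127} : Finset ℕ), t ∣ Nat.card π.ker) : False := by
  classical
  obtain ⟨p, s, hp, hs, hp2, hs2, hpr, hsr, hps, hO⟩ := odd_cases hF hr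
  have hrR : r ∈ R4 := by rcases hr with rfl | rfl <;> decide
  have hr2' : r ≠ 2 := by rcases hr with rfl | rfl <;> norm_num
  have hrp := ar_R4.prime r hrR
  have hpp := ar_R4.prime p hp
  have hsp := ar_R4.prime s hs
  haveI := Fact.mk hrp
  haveI := Fact.mk hpp
  haveI := Fact.mk hsp
  set K := π.ker
  -- a Hall subgroup for the odd primes
  obtain ⟨H, hH⟩ := CfsgLib.exists_isPiHallOf (↑({29, 113, 127} : Finset ℕ) : Set ℕ) hK
  have hHK : H ≤ K := hH.1
  have hdH : ∀ t ∈ ({29, 113, 127} : Finset ℕ), t ∣ Nat.card H := by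
    intro t ht
    have htp : t.Prime := by
      simp only [Finset.mem_insert, Finset.mem_singleton] at ht
      rcases ht with rfl | rfl | rfl <;> norm_num
    have h1 := hall t ht
    rw [← CfsgLib.card_mul_relIndex hHK] at h1
    exact (htp.dvd_mul.mp h1).resolve_right (hH.2.2 t htp ht)
  have hcopH : (Nat.card H).Coprime (H.relIndex K) := by
    refine Nat.coprime_of_dvd fun t ht h1 h2 => hH.2.2 t ht (hH.2.1 t ht h1) h2
  have hNH : (Subgroup.normalizer (H : Set G)).map π = ⊤ := by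
    refine map_top_of_sup hF π hsurj le_rfl ?_
    rw [sup_comm]
    exact CfsgLib.hall_frattini hK hHK hcopH
  -- its Sylow subgroup of order `r`
  have hrO : r ∈ ({29, 113, 127} : Finset ℕ) := by rw [hO]; simp
  obtain ⟨y, hy⟩ := exists_prime_orderOf_dvd_card' (G := H) r (hdH r hrO)
  set Q := Subgroup.zpowers (y : G)
  have hyH : (y : G) ∈ H := y.2
  have hyK : (y : G) ∈ K := hHK hyH
  rw [← Subgroup.orderOf_coe] at hy
  set NH := Subgroup.normalizer (H : Set G)
  have hHN : H ≤ NH := Subgroup.le_normalizer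
  have hQsyl : ∀ P : Sylow r (H.subgroupOf NH), Nat.card P = r := by
    intro P
    obtain ⟨k, hk⟩ := P.2.exists_card_eq
    have hd : Nat.card P ∣ Nat.card H := by
      rw [← Nat.card_congr (Subgroup.subgroupOfEquivOfLe hHN).toEquiv]
      exact Subgroup.card_subgroup_dvd_card _
    have h1 : r ∣ Nat.card P := P.dvd_card_of_dvd_card (by
      rw [Nat.card_congr (Subgroup.subgroupOfEquivOfLe hHN).toEquiv]; exact hdH r hrO)
    rw [hk] at hd h1
    rcases k with _ | _ | k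
    · exact absurd h1 (by rw [pow_zero, Nat.dvd_one]; exact hrp.ne_one)
    · rw [hk, zero_add, pow_one]
    · exact absurd (((pow_dvd_pow r (by omega : 2 ≤ k + 1 + 1)).trans hd).trans (Subgroup.card_dvd_of_le hHK)) hr2
  -- the normaliser of both covers the quotient
  haveI : (H.subgroupOf NH).Normal := Subgroup.normal_in_normalizer
  set y' : H.subgroupOf NH := ⟨⟨y, hHN hyH⟩, hyH⟩
  have hyo' : orderOf y' = r := by rw [← Subgroup.orderOf_coe, ← Subgroup.orderOf_coe]; exact hy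
  obtain ⟨P, hP⟩ := (IsPGroup.of_card (n := 1) (show Nat.card (Subgroup.zpowers y') = r ^ 1 by
    rw [Nat.card_zpowers, hyo', pow_one]) : IsPGroup r (Subgroup.zpowers y')).exists_le_sylow
  have hPy : (P : Subgroup (H.subgroupOf NH)) = Subgroup.zpowers y' :=
    (Subgroup.eq_of_le_of_card_ge hP (by rw [hQsyl P, Nat.card_zpowers, hyo'])).symm
  set N₂ := (Subgroup.normalizer (((P : Subgroup (H.subgroupOf NH)).map (H.subgroupOf NH).subtype : Subgroup NH) :
    Set NH)).map NH.subtype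
  have hN₂ : N₂.map π = ⊤ := by
    have h1 := Sylow.normalizer_sup_eq_top P
    have h2 := congrArg (fun Y : Subgroup NH => (Y.map NH.subtype).map π) h1
    simp only [Subgroup.map_sup] at h2
    rw [← MonoidHom.range_eq_map, Subgroup.range_subtype, hNH,
      show ((H.subgroupOf NH).map NH.subtype).map π = ⊥ from (Subgroup.map_eq_bot_iff _).mpr
        ((Subgroup.map_subgroupOf_eq_of_le hHN).le.trans hHK), sup_bot_eq] at h2
    exact h2
  have hN₂n : N₂ ≤ Subgroup.normalizer (Q : Set G) := by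
    refine (Subgroup.le_normalizer_map _).trans ?_
    rw [hPy, MonoidHom.map_zpowers, MonoidHom.map_zpowers]
    exact le_rfl
  set X := N₂ ⊓ Subgroup.centralizer ({(y : G)} : Set G)
  have hX : X.map π = ⊤ := cent_onto hF π hN₂ hN₂n
  have hXH : X ≤ NH := inf_le_left.trans (Subgroup.map_subtype_le _)
  have hXy : X ≤ Subgroup.centralizer ({(y : G)} : Set G) := inf_le_right
  -- no other odd prime centralises `y` in the kernel
  have hCK : ∀ t ∈ R4, t ≠ 2 → t ≠ r → ¬ t ∣ Nat.card (K ⊓ Subgroup.centralizer ({(y : G)} : Set G) : Subgroup G) := by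
    intro t ht ht2 htr hd
    have htp := ar_R4.prime t ht
    haveI := Fact.mk htp
    set C := Subgroup.centralizer ({(y : G)} : Set G)
    set K' := (K ⊓ C).subgroupOf C
    haveI : K'.Normal := by
      show ((K ⊓ C).subgroupOf C).Normal
      rw [Subgroup.inf_subgroupOf_right]
      infer_instance
    obtain ⟨T⟩ : Nonempty (Sylow t K') := inferInstance
    set T₁ := (T : Subgroup K').map K'.subtype
    set T₂ := T₁.map C.subtype
    set NT := (Subgroup.normalizer (T₁ : Set C)).map C.subtype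
    have hNT : NT.map π = ⊤ := by
      have h1 := congrArg (fun Y : Subgroup C => (Y.map C.subtype).map π) (Sylow.normalizer_sup_eq_top T)
      simp only [Subgroup.map_sup] at h1
      have hC : C.map π = ⊤ := top_le_iff.mp (hX.ge.trans (Subgroup.map_mono hXy))
      rw [← MonoidHom.range_eq_map, Subgroup.range_subtype, hC,
        show (K'.map C.subtype).map π = ⊥ from (Subgroup.map_eq_bot_iff _).mpr
          ((Subgroup.map_subgroupOf_eq_of_le inf_le_right).le.trans inf_le_left), sup_bot_eq] at h1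
      exact h1
    obtain ⟨A, hA, hAe, hAc⟩ := fat_two_of_onto hF π hB (hNT.ge.trans' le_top)
    have hT : ∀ v ∈ T₂, v ^ t = 1 := hB.hyp.pow_eq_one ar_R4 ht ht2 ((T.2.map _).map _)
    have hT0 : T₂ ≠ ⊥ := by
      intro e
      have h1 : t ∣ Nat.card (T : Subgroup K') := T.dvd_card_of_dvd_card (by
        rw [Nat.card_congr (Subgroup.subgroupOfEquivOfLe inf_le_right).toEquiv]; exact hd)
      rw [show Nat.card (T : Subgroup K') = Nat.card T₂ by
        rw [Subgroup.card_map_of_injective C.subtype_injective, Subgroup.card_map_of_injective K'.subtype_injective],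
        e, Subgroup.card_bot, Nat.dvd_one] at h1
      exact htp.ne_one h1
    obtain ⟨a, ha, ha1, v, hv, hv1, hav⟩ := gen_fix Nat.prime_two hAe hAc
      (not_dvd_of_isPGroup htp Nat.prime_two ht2.symm (isPGroup_of_exp hT))
      (hA.trans (Subgroup.le_normalizer_map _)) hT0
    have hvy : Commute v (y : G) := Subgroup.mem_centralizer_singleton_iff.mp (Subgroup.map_subtype_le _ hv)
    exact hB.hyp.triple ar_R4 (orderOf_ea Nat.prime_two hAe ha ha1) (orderOf_eq_prime (hT v hv) hv1) hy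
      ar_R4.two ht hrR ht2.symm hr2'.symm htr hav
      (Subgroup.mem_centralizer_singleton_iff.mp (Subgroup.map_subtype_le _ (hA ha))) hvy
  -- the primes of `H`
  have hHprimes : ∀ t : ℕ, t.Prime → t ∣ Nat.card H → t = r ∨ t = p ∨ t = s := by
    intro t ht hd
    have := hH.2.1 t ht hd
    rw [Finset.mem_coe, hO] at this
    simpa using this
  have hHcop : ∀ h ∈ H, Commute h (y : G) → ¬ p ∣ orderOf h ∧ ¬ s ∣ orderOf h := by
    intro h hh hc
    have hmem : h ∈ K ⊓ Subgroup.centralizer ({(y : G)} : Set G) :=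
      ⟨hHK hh, Subgroup.mem_centralizer_singleton_iff.mpr hc.eq⟩
    exact ⟨fun hd => hCK p hp hp2 hpr (hd.trans (Subgroup.orderOf_dvd_natCard _ hmem)),
      fun hd => hCK s hs hs2 hsr (hd.trans (Subgroup.orderOf_dvd_natCard _ hmem))⟩
  -- a normal complement
  set yH : H := ⟨y, hyH⟩
  obtain ⟨PH, hPH⟩ := (IsPGroup.of_card (n := 1) (show Nat.card (Subgroup.zpowers yH) = r ^ 1 by
    rw [Nat.card_zpowers, ← Subgroup.orderOf_coe, pow_one]; exact hy) : IsPGroup r (Subgroup.zpowers yH)).exists_le_sylow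
  have hPHc : (PH : Subgroup H) = Subgroup.zpowers yH := by
    refine (Subgroup.eq_of_le_of_card_ge hPH ?_).symm
    obtain ⟨k, hk⟩ := PH.2.exists_card_eq
    rw [Nat.card_zpowers, ← Subgroup.orderOf_coe, hy, hk]
    rcases k with _ | _ | k
    · rw [pow_zero]; exact hrp.one_le
    · rw [zero_add, pow_one]
    · exact absurd (((pow_dvd_pow r (by omega : 2 ≤ k + 1 + 1)).trans (hk ▸ Subgroup.card_subgroup_dvd_card _)).trans
        (Subgroup.card_dvd_of_le hHK)) hr2
  have hPHn : Subgroup.normalizer ((PH : Subgroup H) : Set H) ≤ Subgroup.centralizer ((PH : Subgroup H) : Set H) := by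
    intro h hh
    refine centralises_prime hrp (by rw [hPHc, Nat.card_zpowers, ← Subgroup.orderOf_coe]; exact hy)
      (pow_orderOf_eq_one h) ?_ hh
    refine Nat.coprime_of_dvd fun t ht h1 h2 => ?_
    have hrr : ¬ r ∣ r - 1 := fun hd => by
      have := Nat.le_of_dvd (by have := hrp.two_le; omega) hd
      have := hrp.two_le
      omega
    rcases hHprimes t ht (h1.trans (_root_.orderOf_dvd_natCard h)) with e | e | e <;> subst e
    · exact hrr h2
    · exact (ar_R4.sub t hp hp2 r hrR hr2' hpr.symm).1 h2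
    · exact (ar_R4.sub t hs hs2 r hrR hr2' hsr.symm).1 h2
  set f := MonoidHom.transferSylow PH hPHn
  set M₀ := f.ker
  have hM₀r : ¬ r ∣ Nat.card M₀ := MonoidHom.not_dvd_card_ker_transferSylow PH hPHn
  have hM₀ : ∀ h : H, ¬ r ∣ orderOf h → h ∈ M₀ := by
    intro h hh
    rw [MonoidHom.mem_ker]
    refine orderOf_eq_one_iff.mp (Nat.eq_one_of_dvd_coprimes ?_ (orderOf_map_dvd f h) (_root_.orderOf_dvd_natCard _))
    have : Nat.card PH = r := by
      have : Nat.card (PH : Subgroup H) = r := by rw [hPHc, Nat.card_zpowers, ← Subgroup.orderOf_coe]; exact hy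
      exact this
    rw [this]
    exact (hrp.coprime_iff_not_dvd.mpr hh).symm
  set M := M₀.map H.subtype
  have hMr : ¬ r ∣ Nat.card M := by rwa [Subgroup.card_map_of_injective H.subtype_injective]
  have hMH : M ≤ H := Subgroup.map_subtype_le _
  have hMmem : ∀ h ∈ H, ¬ r ∣ orderOf h → h ∈ M := fun h hh ho =>
    ⟨⟨h, hh⟩, hM₀ _ (by rwa [← Subgroup.orderOf_coe]), rfl⟩
  have hMmem' : ∀ m ∈ M, ¬ r ∣ orderOf m := fun m hm hd => hMr (hd.trans (Subgroup.orderOf_dvd_natCard _ hm))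
  have hMconj : ∀ g ∈ NH, ∀ m ∈ M, g * m * g⁻¹ ∈ M := by
    intro g hg m hm
    refine hMmem _ ((Subgroup.mem_normalizer_iff.mp hg m).mp (hMH hm)) ?_
    rw [show orderOf (g * m * g⁻¹) = orderOf m from MulEquiv.orderOf_eq (MulAut.conj g) m]
    exact hMmem' m hm
  have hyM : Q ≤ Subgroup.normalizer (M : Set G) := by
    rw [Subgroup.zpowers_le, Subgroup.mem_normalizer_iff]
    intro m
    refine ⟨hMconj _ (hHN hyH) m, fun h => ?_⟩
    have := hMconj _ (inv_mem (hHN hyH)) _ h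
    simpa [mul_assoc] using this
  have hfpf : ∀ e ∈ Q, e ≠ 1 → ∀ u ∈ M, e * u = u * e → u = 1 := by
    intro e he he1 u hu heu
    have hz : Subgroup.zpowers e = Q := Subgroup.eq_of_le_of_card_ge (Subgroup.zpowers_le.mpr he) (by
      rw [Nat.card_zpowers, Nat.card_zpowers, hy,
        orderOf_eq_prime (hy ▸ orderOf_dvd_iff_pow_eq_one.mp (Nat.card_zpowers (y : G) ▸
          Subgroup.orderOf_dvd_natCard _ he)) he1])
    obtain ⟨i, hi⟩ := Subgroup.mem_zpowers_iff.mp (hz ▸ Subgroup.mem_zpowers (y : G) : (y : G) ∈ Subgroup.zpowers e)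
    have huy : Commute u (y : G) := by
      rw [← hi]
      exact (show Commute u e from heu.symm).zpow_right i
    by_contra hu1
    obtain ⟨t, ht, htd⟩ := Nat.exists_prime_and_dvd (n := orderOf u) (fun e => hu1 (orderOf_eq_one_iff.mp e))
    obtain ⟨h1, h2⟩ := hHcop u (hMH hu) huy
    rcases hHprimes t ht (htd.trans (Subgroup.orderOf_dvd_natCard _ (hMH hu))) with e | e | e <;> subst e
    · exact hMmem' u hu htd
    · exact h1 htd
    · exact h2 htd
  have hQ0 : Q ≠ ⊥ := fun e => hrp.ne_one (by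
    rw [← hy, (Subgroup.eq_bot_iff_forall _).mp e _ (Subgroup.mem_zpowers _), orderOf_one])
  haveI hnil : Group.IsNilpotent M := CfsgLib.FrobAction.isNilpotent_of_fpf_operators M Q hQ0 hyM hfpf
  -- central elements of both orders
  have hcen : ∀ t : ℕ, t.Prime → t ≠ r → t ∈ ({29, 113, 127} : Finset ℕ) → ∃ V : Subgroup G,
      Cfsg.IsElementaryAbelian t V ∧ V ≠ ⊥ ∧ V ≤ M ∧ (∀ v ∈ V, ∀ m ∈ M, Commute v m) ∧
        NH ≤ Subgroup.normalizer (V : Set G) := by
    intro t ht htr htO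
    haveI := Fact.mk ht
    let V : Subgroup G :=
      { carrier := {z | z ∈ M ∧ (∀ m ∈ M, Commute z m) ∧ z ^ t = 1}
        one_mem' := ⟨one_mem _, fun m _ => Commute.one_left m, one_pow t⟩
        mul_mem' := fun {a b} ha hb => ⟨mul_mem ha.1 hb.1, fun m hm => (ha.2.1 m hm).mul_left (hb.2.1 m hm),
          by rw [(ha.2.1 b hb.1).mul_pow, ha.2.2, hb.2.2, one_mul]⟩
        inv_mem' := fun {a} ha => ⟨inv_mem ha.1, fun m hm => (ha.2.1 m hm).inv_left,
          by rw [inv_pow, ha.2.2, inv_one]⟩ }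
    have hdM : t ∣ Nat.card M₀ := by
      have h1 := hdH t htO
      have hc : Nat.card (PH : Subgroup H) = r := by rw [hPHc, Nat.card_zpowers, ← Subgroup.orderOf_coe]; exact hy
      rw [← (MonoidHom.ker_transferSylow_isComplement' PH hPHn).card_mul, hc] at h1
      exact (ht.dvd_mul.mp h1).resolve_right fun h => htr ((Nat.prime_dvd_prime_iff_eq ht hrp).mp h)
    rw [← Subgroup.card_map_of_injective H.subtype_injective] at hdM
    obtain ⟨T⟩ : Nonempty (Sylow t M) := inferInstance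
    have hallN : ∀ (q : ℕ) (_ : Fact q.Prime) (U : Sylow q M), (U : Subgroup M).Normal :=
      ((Group.isNilpotent_of_finite_tfae (G := M)).out 0 3).mp hnil
    haveI : (T : Subgroup M).Normal := hallN t inferInstance T
    have hT0 : (T : Subgroup M) ≠ ⊥ := fun e => by
      have h1 : t ∣ Nat.card (T : Subgroup M) := T.dvd_card_of_dvd_card hdM
      rw [e, Subgroup.card_bot, Nat.dvd_one] at h1
      exact ht.ne_one h1
    obtain ⟨⟨z, hz⟩, hz1⟩ := Subgroup.ne_bot_iff_exists_ne_one.mp (CfsgLib.inf_center_ne_bot_of_nilpotent hT0)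
    have htR : t ∈ R4 ∧ t ≠ 2 := by
      simp only [Finset.mem_insert, Finset.mem_singleton] at htO
      rcases htO with rfl | rfl | rfl <;> exact ⟨by decide, by norm_num⟩
    have hzV : (z : G) ∈ V := ⟨z.2, fun m hm =>
      (congrArg Subtype.val (Subgroup.mem_center_iff.mp hz.2 ⟨m, hm⟩)).symm,
      hB.hyp.pow_eq_one ar_R4 htR.1 htR.2 (T.2.map M.subtype) _ ⟨z, hz.1, rfl⟩⟩
    refine ⟨V, ⟨⟨⟨fun a b => Subtype.ext (a.2.2.1 b b.2.1).eq⟩⟩, fun a ha => ha.2.2⟩, ?_, fun a ha => ha.1,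
      fun a ha => ha.2.1, ?_⟩
    · intro e
      exact hz1 (Subtype.ext (Subtype.ext ((Subgroup.eq_bot_iff_forall _).mp e _ hzV)))
    · have key : ∀ g ∈ NH, ∀ z ∈ V, g * z * g⁻¹ ∈ V := by
        rintro g hg z ⟨hzM, hzc, hzt⟩
        refine ⟨hMconj g hg z hzM, fun m hm => ?_, by rw [conj_pow, hzt, mul_one, mul_inv_cancel]⟩
        have hm' : g⁻¹ * m * g ∈ M := by simpa using hMconj _ (inv_mem hg) m hm
        show g * z * g⁻¹ * m = m * (g * z * g⁻¹)
        calc g * z * g⁻¹ * m = g * (z * (g⁻¹ * m * g)) * g⁻¹ := by group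
          _ = m * (g * z * g⁻¹) := by rw [(hzc _ hm').eq]; group
      intro g hg
      rw [Subgroup.mem_normalizer_iff]
      intro z
      refine ⟨key g hg z, fun h => ?_⟩
      simpa [mul_assoc] using key _ (inv_mem hg) _ h
  obtain ⟨V, hV, hV0, hVM, hVc, hVn⟩ := hcen p hpp hpr (by rw [hO]; simp)
  obtain ⟨W, hW, hW0, hWM, hWc, hWn⟩ := hcen s hsp hsr (by rw [hO]; simp)
  -- an involution with fixed points on a group it acts on nontrivially
  obtain ⟨e₀, g₀, he₀, hg₀, hge₀, hfpf₀⟩ := exists_frob hF hr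
  set Y := X ⊓ (Subgroup.zpowers e₀).comap π
  set Y₂ := X ⊓ (Subgroup.normalizer (Subgroup.zpowers e₀ : Set ↥(Cfsg.Sz F 3))).comap π
  have hYY : Y ≤ Y₂ := inf_le_inf_left _ (Subgroup.comap_mono Subgroup.le_normalizer)
  haveI : (Y.subgroupOf Y₂).Normal := ⟨fun a ha g => ⟨X.mul_mem (X.mul_mem g.2.1 ha.1) (X.inv_mem g.2.1), by
    show π ((g : G) * a * (g : G)⁻¹) ∈ Subgroup.zpowers e₀
    rw [map_mul, map_mul, map_inv]
    exact (Subgroup.mem_normalizer_iff.mp g.2.2 _).mp ha.2⟩⟩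
  obtain ⟨R₀⟩ : Nonempty (Sylow r (Y.subgroupOf Y₂)) := inferInstance
  set R₁ := (R₀ : Subgroup (Y.subgroupOf Y₂)).map (Y.subgroupOf Y₂).subtype
  set R := R₁.map Y₂.subtype
  have hRp : IsPGroup r R := (R₀.2.map _).map _
  have hRX : R ≤ X := (Subgroup.map_subtype_le _).trans inf_le_left
  obtain ⟨e, heR, hπe⟩ : ∃ e ∈ R, π e = e₀ := by
    set fY : Y.subgroupOf Y₂ →* Subgroup.zpowers e₀ :=
      (π.comp (Y₂.subtype.comp (Y.subgroupOf Y₂).subtype)).codRestrict _ (fun z => z.2.2)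
    have hfs : Function.Surjective fY := by
      rintro ⟨u, hu⟩
      obtain ⟨x, hx, rfl⟩ := (hX.symm ▸ Subgroup.mem_top u : u ∈ X.map π)
      exact ⟨⟨⟨x, hYY ⟨hx, hu⟩⟩, ⟨hx, hu⟩⟩, Subtype.ext rfl⟩
    have h2 : ((R₀.mapSurjective hfs : Sylow r (Subgroup.zpowers e₀)) : Subgroup (Subgroup.zpowers e₀)) = ⊤ :=
      ((R₀.mapSurjective hfs).3 (Q := ⊤) (IsPGroup.of_card (n := 1)
        (by rw [Subgroup.card_top, Nat.card_zpowers, he₀, pow_one])) le_top).symm
    rw [Sylow.coe_mapSurjective] at h2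
    obtain ⟨x, hx, hxe⟩ := (h2.symm ▸ Subgroup.mem_top _ :
      (⟨e₀, Subgroup.mem_zpowers e₀⟩ : Subgroup.zpowers e₀) ∈ (R₀ : Subgroup (Y.subgroupOf Y₂)).map fY)
    exact ⟨_, ⟨_, ⟨x, hx, rfl⟩, rfl⟩, congrArg Subtype.val hxe⟩
  obtain ⟨n, hnN, x₁, hπn⟩ : ∃ n ∈ Subgroup.normalizer (R : Set G) ⊓ X, ∃ x ∈ Subgroup.zpowers e₀, π n = x * g₀ := by
    obtain ⟨x, hx, hxg⟩ := (hX.symm ▸ Subgroup.mem_top g₀ : g₀ ∈ X.map π)
    have hx2 : x ∈ Y₂ := ⟨hx, Subgroup.mem_comap.mpr (by rw [hxg]; exact hge₀)⟩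
    have h1 := Sylow.normalizer_sup_eq_top R₀
    obtain ⟨m, hm, z, hz, hmz⟩ := (Subgroup.mem_sup_of_normal_right.mp
      (h1.symm ▸ Subgroup.mem_top (⟨x, hx2⟩ : Y₂)))
    refine ⟨m, ⟨Subgroup.le_normalizer_map _ ⟨m, hm, rfl⟩, m.2.1⟩, π x * (π (z : G))⁻¹ * g₀⁻¹, ?_, ?_⟩
    · rw [hxg]
      exact (Subgroup.mem_normalizer_iff.mp hge₀ _).mp (inv_mem hz.2)
    · have : π x = π (m : G) * π (z : G) := by rw [← map_mul]; exact congrArg (fun u : Y₂ => π (u : G)) hmz.symm
      rw [this]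
      group
  obtain ⟨hx₁, hπn⟩ := hπn
  -- its involution
  have hconj₀ : (x₁ * g₀) ^ 4 = 1 ∧ ¬ Commute ((x₁ * g₀) ^ 2) e₀ := by
    have hz : ∀ u ∈ Subgroup.zpowers e₀, g₀ * u * g₀⁻¹ ∈ Subgroup.zpowers e₀ := fun u hu =>
      (Subgroup.mem_normalizer_iff.mp hge₀ u).mp hu
    have hcom : ∀ u ∈ Subgroup.zpowers e₀, ∀ w ∈ Subgroup.zpowers e₀, Commute u w := by
      rintro _ ⟨i, rfl⟩ _ ⟨j, rfl⟩
      exact ((Commute.refl e₀).zpow_left i).zpow_right j
    have he₀1 : e₀ ≠ 1 := fun e => hrp.ne_one (by rw [← he₀, e, orderOf_one])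
    set w := x₁ * (g₀ * x₁ * g₀⁻¹) with hw
    have hwm : w ∈ Subgroup.zpowers e₀ := mul_mem hx₁ (hz _ hx₁)
    have hsq : (x₁ * g₀) ^ 2 = w * g₀ ^ 2 := by rw [hw, pow_two, pow_two]; group
    have hg4 : g₀ ^ 4 = 1 := orderOf_dvd_iff_pow_eq_one.mp (dvd_of_eq hg₀)
    constructor
    · set w' := w * (g₀ ^ 2 * w * (g₀ ^ 2)⁻¹) with hw'
      have hw'm : w' ∈ Subgroup.zpowers e₀ :=
        mul_mem hwm ((Subgroup.mem_normalizer_iff.mp (pow_mem hge₀ 2) w).mp hwm)
      have e4 : (x₁ * g₀) ^ 4 = w' := by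
        have h22 : (g₀ ^ 2) * g₀ ^ 2 = 1 := by rw [← pow_add]; exact hg4
        calc (x₁ * g₀) ^ 4 = (x₁ * g₀) ^ 2 * (x₁ * g₀) ^ 2 := pow_add _ 2 2
          _ = w' * (g₀ ^ 2 * g₀ ^ 2) := by rw [hsq, hw']; group
          _ = w' := by rw [h22, mul_one]
      rw [e4]
      refine hfpf₀ 1 one_pos (by norm_num) w' hw'm ?_
      rw [pow_one]
      have hc1 : Commute (x₁ * g₀) w' := e4 ▸ Commute.self_pow _ _
      have hc2 : Commute x₁⁻¹ w' := (hcom _ (inv_mem hx₁) _ hw'm)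
      simpa using hc2.mul_left hc1
    · intro hc
      refine he₀1 (hfpf₀ 2 two_pos (by norm_num) e₀ (Subgroup.mem_zpowers e₀) ?_)
      rw [hsq] at hc
      simpa using (hcom _ (inv_mem hwm) _ (Subgroup.mem_zpowers e₀)).mul_left hc
  obtain ⟨j, hjX, hjR, hjo, hπj⟩ : ∃ j ∈ X, j ∈ Subgroup.normalizer (R : Set G) ∧ orderOf j = 2 ∧
      ¬ Commute (π j) e₀ := by
    set o := orderOf n with ho
    set m₀ := 2 ^ o.factorization 2
    obtain ⟨a, b⟩ := hconj₀
    have hdiv : o = m₀ * (o / m₀) := (Nat.mul_div_cancel' (Nat.ordProj_dvd o 2)).symm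
    have hodd : ¬ 2 ∣ o / m₀ := Nat.not_dvd_ordCompl Nat.prime_two (orderOf_pos n).ne'
    set k := o / m₀
    have hk0 : k ≠ 0 := fun e => hodd (e ▸ dvd_zero 2)
    have hno : orderOf (n ^ k) = m₀ := by
      rw [orderOf_pow, ← ho, hdiv, Nat.gcd_eq_right (dvd_mul_left k m₀), Nat.mul_div_cancel _ (Nat.pos_of_ne_zero hk0)]
    -- an odd power of the image has the same square up to inversion
    have hsq2 : ((x₁ * g₀) ^ k) ^ 2 = (x₁ * g₀) ^ 2 := by
      obtain ⟨l, hl⟩ := Nat.odd_iff.mpr (Nat.two_dvd_ne_zero.mp hodd)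
      rw [← pow_mul, hl, show (2 * l + 1) * 2 = 4 * l + 2 by ring, pow_add, pow_mul, a, one_pow, one_mul]
    have hn4 : (n ^ k) ^ 4 = 1 := by
      rcases Nat.lt_or_ge (o.factorization 2) 3 with h | h
      · exact orderOf_dvd_iff_pow_eq_one.mp (hno ▸ (pow_dvd_pow 2 (by omega : o.factorization 2 ≤ 2)))
      · exfalso
        refine hB.hyp.exp2 ((n ^ k) ^ 2 ^ (o.factorization 2 - 3)) ?_
        rw [orderOf_pow, hno, Nat.gcd_eq_right (pow_dvd_pow _ (by omega)), Nat.pow_div (by omega) two_pos,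
          show o.factorization 2 - (o.factorization 2 - 3) = 3 by omega]
        norm_num
    refine ⟨(n ^ k) ^ 2, pow_mem (pow_mem hnN.2 k) 2, pow_mem (pow_mem hnN.1 k) 2, ?_, ?_⟩
    · refine orderOf_eq_prime (by rw [← pow_mul]; exact hn4) fun h => b ?_
      have h1 := congrArg π h
      rw [map_pow, map_pow, map_one, hπn, hsq2] at h1
      rw [h1]
      exact Commute.one_left _
    · rw [map_pow, map_pow, hπn, hsq2]
      exact b
  set z := j * e * j⁻¹ * e⁻¹
  have hzX : z ∈ X := mul_mem (mul_mem (mul_mem hjX (hRX heR)) (inv_mem hjX)) (inv_mem (hRX heR))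
  have hπz : π z ≠ 1 := by
    intro h
    simp only [z, map_mul, map_inv, hπe] at h
    rw [mul_inv_eq_one, mul_inv_eq_iff_eq_mul] at h
    exact hπj h
  -- nothing outside the kernel centralises one of the two groups
  have hker : ∀ (a b : ℕ) (V' W' : Subgroup G), a ∈ R4 → b ∈ R4 → a ≠ 2 → b ≠ 2 → a ≠ b →
      Cfsg.IsElementaryAbelian a V' → V' ≠ ⊥ → Cfsg.IsElementaryAbelian b W' → W' ≠ ⊥ →
      (∀ v ∈ V', ∀ w ∈ W', Commute v w) → NH ≤ Subgroup.normalizer (W' : Set G) → NH ≤ Subgroup.normalizer (V' : Set G) →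
      ∀ x ∈ X, x ∈ Subgroup.centralizer (V' : Set G) → π x = 1 := by
    intro a b V' W' ha hb ha2 hb2 hab hV' hV'0 hW' hW'0 hcomm hW'n hV'n x hxX hxV
    set Cv := X ⊓ Subgroup.centralizer (V' : Set G)
    have hnorm : (Cv.map π).Normal := ⟨by
      rintro _ ⟨c, hc, rfl⟩ t
      obtain ⟨t', ht', rfl⟩ := (hX.symm ▸ Subgroup.mem_top t : t ∈ X.map π)
      refine ⟨t' * c * t'⁻¹, ⟨X.mul_mem (X.mul_mem ht' hc.1) (X.inv_mem ht'), ?_⟩, by simp⟩
      show t' * c * t'⁻¹ ∈ Subgroup.centralizer (V' : Set G)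
      rw [Subgroup.mem_centralizer_iff]
      intro v hv
      have h1 : t'⁻¹ * v * t' ∈ V' := by
        have := (Subgroup.mem_normalizer_iff.mp (hV'n (hXH (inv_mem ht'))) v).mp hv
        simpa using this
      calc v * (t' * c * t'⁻¹) = t' * ((t'⁻¹ * v * t') * c) * t'⁻¹ := by group
        _ = t' * c * t'⁻¹ * v := by rw [Subgroup.mem_centralizer_iff.mp hc.2 _ h1]; group⟩
    haveI := Suzuki.isSimple hF (by norm_num : 1 ≤ 3)
    rcases hnorm.eq_bot_or_eq_top with h | h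
    · exact (Subgroup.eq_bot_iff_forall _).mp h _ ⟨x, ⟨hxX, hxV⟩, rfl⟩
    · exfalso
      obtain ⟨A, hA, hAe, hAc⟩ := fat_two_of_onto hF π hB (h.ge.trans' le_top)
      obtain ⟨i, hi, hi1, w, hw, hw1, hiw⟩ := gen_fix Nat.prime_two hAe hAc
        (not_dvd_of_isPGroup (ar_R4.prime b hb) Nat.prime_two hb2.symm (isPGroup_of_exp hW'.2))
        (fun c hc => hW'n (hXH (hA hc).1)) hW'0
      obtain ⟨⟨v, hv⟩, hv1⟩ := Subgroup.ne_bot_iff_exists_ne_one.mp hV'0
      exact hB.hyp.triple ar_R4 (orderOf_ea Nat.prime_two hAe hi hi1)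
        (orderOf_ea (ar_R4.prime a ha) hV' hv fun e => hv1 (Subtype.ext e)) (orderOf_ea (ar_R4.prime b hb) hW' hw hw1)
        ar_R4.two ha hb ha2.symm hb2.symm hab (Subgroup.mem_centralizer_iff.mp (hA hi).2 v hv).symm hiw
        (hcomm v hv w hw)
  have hfixV : Fix V j := by
    by_contra hn
    exact hπz (hker p s V W hp hs hp2 hs2 hps hV hV0 hW hW0 (fun v hv w hw => hVc v hv w (hWM hw)) hWn hVn z hzX
      (kill hjo Nat.prime_two hrp hpp hr2'.symm hp2.symm hpr.symm (fun h => absurd h hr2') hRp hV hjR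
        (hVn (hXH hjX)) (hRX.trans (hXH.trans hVn)) hn e heR))
  have hfixW : Fix W j := by
    by_contra hn
    exact hπz (hker s p W V hs hp hs2 hp2 hps.symm hW hW0 hV hV0 (fun w hw v hv => hWc w hw v (hVM hv)) hVn hWn z hzX
      (kill hjo Nat.prime_two hrp hsp hr2'.symm hs2.symm hsr.symm (fun h => absurd h hr2') hRp hW hjR
        (hWn (hXH hjX)) (hRX.trans (hXH.trans hWn)) hn e heR))
  obtain ⟨v, hv, hv1, hjv⟩ := hfixV
  obtain ⟨w, hw, hw1, hjw⟩ := hfixW
  exact hB.hyp.triple ar_R4 hjo (orderOf_ea hpp hV hv hv1) (orderOf_ea hsp hW hw hw1) ar_R4.two hp hs hp2.symm hs2.symm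
    hps hjv hjw (hVc v hv w (hWM hw))

end CfsgLib.SzSq
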