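import Cfsg.Agent.Lib.SzSquare.Facts
import Cfsg.Agent.Lib.Comp.Layer
import Cfsg.Agent.Lib.ClosedCentral.Central
import Cfsg.Agent.Lib.S3Simple.Rows
import Cfsg.Agent.Lib.S3Simple.Classification
import Cfsg.Agent.Lib.SuzukiUnique.Transport

/-!
Groups with trivial radical and the element orders of the square of `Sz(128)`.
-/

set_option autoImplicit false
set_option linter.unusedSectionVars false

namespace CfsgLib.SzSq

open Subgroup Cfsg

universe u v

variable {X : Type u} [Group X] [Finite X]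

theorem exp_cases {m : ℕ} (hm : 1 ≤ m) (h : ∃ a ∈ tops, ∃ b ∈ tops, 2 ^ (2 * m + 1) - 1 ∣ Nat.lcm a b) : m = 3 := by
  obtain ⟨a, ha, b, hb, hd⟩ := h
  have hle : ∀ a ∈ tops, ∀ b ∈ tops, 0 < Nat.lcm a b ∧ Nat.lcm a b < 2 ^ 15 - 1 := by decide +kernel
  have hlt : 2 ^ (2 * m + 1) - 1 < 2 ^ 15 - 1 := (Nat.le_of_dvd (hle a ha b hb).1 hd).trans_lt (hle a ha b hb).2
  have hm7 : m < 7 := by
    by_contra hn
    have := Nat.pow_le_pow_right (show 0 < 2 by norm_num) (show 15 ≤ 2 * m + 1 by omega)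
    omega
  have key : ∀ a ∈ tops, ∀ b ∈ tops, ∀ m < 7, 1 ≤ m → m ≠ 3 → ¬ 2 ^ (2 * m + 1) - 1 ∣ Nat.lcm a b := by
    decide +kernel
  by_contra hne
  exact key a ha b hb m hm7 hm hne hd

/-- A nonabelian simple subgroup is `Sz(128)`. -/
theorem simple_sz {S : Type u} [Group S] [Finite S] [IsSimpleGroup S] (hS : ¬ IsMulCommutative S) (hB : Bounded S) :
    ∃ (F : Type) (_ : Field F) (_ : Fintype F), Fintype.card F = 2 ^ 7 ∧ Nonempty (S ≃* ↥(Cfsg.Sz F 3)) := by
  have h3 := hB.not_three_dvd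
  have hl := S3Simple.classify_of_killed S3Simple.eightKilled S3Simple.fourKilled S ‹_› hS
    (S3Simple.free_of_not_three h3)
  rcases S3Simple.suzuki_or_three (K := S) hl with hz | ⟨hd, -⟩
  swap
  · exact absurd hd h3
  obtain ⟨F, _, _, m, hm, hc, ⟨e⟩⟩ := hz
  set e' := e.trans (Suzuki.lieEquiv hc hm).symm
  have : m = 3 := by
    refine exp_cases hm ?_
    haveI := Suzuki.isCyclic_T hc
    obtain ⟨t, ht⟩ := IsCyclic.exists_generator (α := Suzuki.T hc)
    obtain ⟨a, ha, b, hb, hd⟩ := hB (e'.symm (t : ↥(Cfsg.Sz F m)))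
    refine ⟨a, ha, b, hb, ?_⟩
    rwa [MulEquiv.orderOf_eq, Subgroup.orderOf_coe, orderOf_eq_card_of_forall_mem_zpowers ht, Suzuki.card_T] at hd
  subst this
  exact ⟨F, _, _, hc, ⟨e'⟩⟩

/-- Elements normalising such a subgroup induce inner automorphisms. -/
theorem inner_of_sz (h7 : ¬ 7 ∣ Nat.card X) {L : Subgroup X} {F : Type v} [Field F] [Fintype F]
    (hF : Fintype.card F = 2 ^ 7) (e : L ≃* ↥(Cfsg.Sz F 3)) {g : X} (hg : g ∈ Subgroup.normalizer (L : Set X)) :
    ∃ l ∈ L, ∀ x ∈ L, g * x * g⁻¹ = l * x * l⁻¹ := by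
  have hF' : Fintype.card F = 2 ^ (2 * 3 + 1) := hF
  set φ : Subgroup.normalizer (L : Set X) →* Out ↥(Cfsg.Sz F 3) :=
    ((QuotientGroup.mk' (Inn ↥(Cfsg.Sz F 3))).comp (MulAut.congr e).toMonoidHom).comp L.normalizerMonoidHom with hφ
  have h1 : φ ⟨g, hg⟩ = 1 := by
    have hd1 : orderOf (φ ⟨g, hg⟩) ∣ 7 := by
      have := _root_.orderOf_dvd_natCard (φ ⟨g, hg⟩)
      rwa [Suzuki.card_out hF' (by norm_num)] at this
    rcases (Nat.dvd_prime (by norm_num)).mp hd1 with h | h
    · exact orderOf_eq_one_iff.mp h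
    · exfalso
      refine h7 ?_
      rw [← h]
      exact (orderOf_map_dvd φ _).trans ((_root_.orderOf_dvd_natCard _).trans (Subgroup.card_subgroup_dvd_card _))
  rw [hφ, MonoidHom.comp_apply, MonoidHom.comp_apply, QuotientGroup.mk'_apply, QuotientGroup.eq_one_iff] at h1
  obtain ⟨s, hs⟩ := h1
  refine ⟨e.symm s, (e.symm s).2, fun x hx => ?_⟩
  have := DFunLike.congr_fun hs (e ⟨x, hx⟩)
  simp only [MulAut.conj_apply, MulEquiv.coe_toMonoidHom] at this
  have h2 := congrArg (fun z => ((e.symm z : L) : X)) this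
  simp only [map_mul, map_inv, MulEquiv.symm_apply_apply, Subgroup.coe_mul, Subgroup.coe_inv] at h2
  rw [h2]
  simp [MulAut.congr, Subgroup.normalizerMonoidHom]
  rfl

theorem exists_order_sz {L : Subgroup X} {F : Type v} [Field F] [Fintype F] (hF : Fintype.card F = 2 ^ 7)
    (e : L ≃* ↥(Cfsg.Sz F 3)) {p : ℕ} (hp : p.Prime) (hd : p ∣ 2 ^ 14 * 5 * 29 * 113 * 127) :
    ∃ x ∈ L, orderOf x = p := by
  have hF' : Fintype.card F = 2 ^ (2 * 3 + 1) := hF
  haveI := Fact.mk hp
  obtain ⟨z, hz⟩ := exists_prime_orderOf_dvd_card' (G := ↥(Cfsg.Sz F 3)) p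
    (by rw [Suzuki.card_Sz hF' (by norm_num)]; exact hd.trans (by norm_num))
  exact ⟨(e.symm z : L), (e.symm z).2, by rw [Subgroup.orderOf_coe, MulEquiv.orderOf_eq, hz]⟩

theorem exists_four_sz {L : Subgroup X} {F : Type v} [Field F] [Fintype F] (hF : Fintype.card F = 2 ^ 7)
    (e : L ≃* ↥(Cfsg.Sz F 3)) : ∃ x ∈ L, orderOf x = 4 := by
  have hF' : Fintype.card F = 2 ^ (2 * 3 + 1) := hF
  haveI := Suzuki.charTwo hF'
  set u := Suzuki.uS hF' (1 : F) 0
  have hu2 : u ^ 2 ≠ 1 := by
    intro h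
    rw [pow_two, Suzuki.uS_mul, ← Suzuki.uS_zero hF'] at h
    have h2 := (Suzuki.uS_inj hF' h).2
    rw [add_zero, zero_add, mul_one, Suzuki.th_eq_zero_iff] at h2
    exact one_ne_zero h2
  have hu4 : u ^ 4 = 1 := by
    have : u ^ 4 = (u * u) * (u * u) := (pow_add u 2 2).trans (by rw [pow_two])
    have h2 : u * u = Suzuki.uS hF' 0 (Suzuki.th 3 1 * 1) := by
      rw [Suzuki.uS_mul, CharTwo.add_self_eq_zero, CharTwo.add_self_eq_zero, zero_add]
    rw [this, h2, Suzuki.uS_mul, mul_zero, add_zero, add_zero, CharTwo.add_self_eq_zero, Suzuki.uS_zero]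
  exact ⟨(e.symm u : L), (e.symm u).2, by
    rw [Subgroup.orderOf_coe, MulEquiv.orderOf_eq]
    exact orderOf_eq_prime_pow (p := 2) (n := 1) (by simpa using hu2) hu4⟩

/-- The structure of a radical-free group with these element orders. -/
theorem socle_cases (hrad : solvableRadical X = ⊥) [Nontrivial X] (hB : Bounded X) :
    ∃ (F : Type) (_ : Field F) (_ : Fintype F), Fintype.card F = 2 ^ 7 ∧
      (Nonempty (X ≃* ↥(Cfsg.Sz F 3)) ∨ Nonempty (X ≃* ↥(Cfsg.Sz F 3) × ↥(Cfsg.Sz F 3))) := by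
  classical
  have hfit : fittingSubgroup X = ⊥ := le_bot_iff.mp (hrad ▸ CfsgLib.fittingSubgroup_le_solvableRadical)
  have hz : ∀ K : Subgroup X, IsComponent K → ∃ (F : Type) (_ : Field F) (_ : Fintype F), Fintype.card F = 2 ^ 7 ∧
      Nonempty (K ≃* ↥(Cfsg.Sz F 3)) := fun K hK =>
    haveI := (ClosedCentral.component_simple hfit hK).1
    simple_sz (ClosedCentral.component_simple hfit hK).2 (hB.subgroup K)
  have h7 := hB.not_seven_dvd
  have hord : ∀ K : Subgroup X, IsComponent K → ∀ p : ℕ, p.Prime → p ∣ 2 ^ 14 * 5 * 29 * 113 * 127 →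
      ∃ x ∈ K, orderOf x = p := by
    intro K hK p hp hd
    obtain ⟨F, _, _, hF, ⟨e⟩⟩ := hz K hK
    exact exists_order_sz hF e hp hd
  have hcom : ∀ K L : Subgroup X, IsComponent K → IsComponent L → K ≠ L → ∀ a ∈ K, ∀ b ∈ L, Commute a b := by
    intro K L hK hL hne a ha b hb
    exact Comp.comm_of_commutator_eq_bot ((CfsgLib.components_eq_or_commute hK hL).resolve_left hne) ha hb
  have hdis : ∀ K L : Subgroup X, IsComponent K → IsComponent L → K ≠ L → ∀ x ∈ K, x ∈ L → x = 1 := by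
    intro K L hK hL hne x hxK hxL
    have hc := ClosedCentral.component_center_eq_bot hfit hK
    have : (⟨x, hxK⟩ : K) ∈ Subgroup.center K := Subgroup.mem_center_iff.mpr fun y =>
      Subtype.ext (hcom K L hK hL hne y y.2 x hxL).eq
    rw [hc, Subgroup.mem_bot] at this
    exact congrArg Subtype.val this
  -- the centraliser of the layer
  have hCE : ∀ c : X, (∀ K : Subgroup X, IsComponent K → ∀ x ∈ K, Commute x c) → c = 1 := by
    intro c hc
    have hc' : c ∈ Subgroup.centralizer (generalizedFittingSubgroup X : Set X) := by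
      have hle : generalizedFittingSubgroup X ≤ Subgroup.centralizer {c} := by
        rw [generalizedFittingSubgroup, hfit, sup_bot_eq]
        exact sSup_le fun K hK x hx => Subgroup.mem_centralizer_singleton_iff.mpr (hc K hK x hx).eq
      rw [Subgroup.mem_centralizer_iff]
      intro y hy
      exact Subgroup.mem_centralizer_singleton_iff.mp (hle hy)
    haveI : (layer X).Normal := inferInstance
    have hCn : (Subgroup.centralizer (layer X : Set X) ⊓ layer X).Normal := inferInstance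
    have hmem : c ∈ Subgroup.centralizer (layer X : Set X) ⊓ layer X := by
      have h := CfsgLib.centralizer_generalizedFitting_le hc'
      rw [generalizedFittingSubgroup, hfit, sup_bot_eq] at h
      refine ⟨?_, h⟩
      rw [generalizedFittingSubgroup, hfit, sup_bot_eq] at hc'
      exact hc'
    have hs : Group.IsSolvable (Subgroup.centralizer (layer X : Set X) ⊓ layer X : Subgroup X) :=
      Group.isSolvable_of_comm fun a b => Subtype.ext (Subgroup.mem_centralizer_iff.mp b.2.1 a a.2.2)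
    have := CfsgLib.le_solvableRadical hs hmem
    rwa [hrad, Subgroup.mem_bot] at this
  have hconj : ∀ (g : X) (K : Subgroup X), IsComponent K → IsComponent (K.map (MulAut.conj g).toMonoidHom) :=
    fun g K hK => CfsgLib.isComponent_map_equiv (MulAut.conj g) hK
  obtain ⟨K₁, hK₁⟩ : ∃ K : Subgroup X, IsComponent K := by
    by_contra hn
    push Not at hn
    obtain ⟨c, hc⟩ := exists_ne (1 : X)
    exact hc (hCE c fun K hK => absurd hK (hn K))
  obtain ⟨F, iF, iFf, hF, ⟨e₁⟩⟩ := hz K₁ hK₁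
  refine ⟨F, iF, iFf, hF, ?_⟩
  by_cases hone : ∀ K : Subgroup X, IsComponent K → K = K₁
  · -- one component
    left
    have htop : K₁ = ⊤ := by
      rw [Subgroup.eq_top_iff']
      intro g
      have hgn : g ∈ Subgroup.normalizer (K₁ : Set X) := by
        rw [Subgroup.mem_normalizer_iff]
        intro x
        have h1 := hone _ (hconj g K₁ hK₁)
        constructor
        · intro hx
          rw [← h1]
          exact ⟨x, hx, rfl⟩
        · intro hx
          rw [← h1] at hx
          obtain ⟨y, hy, he⟩ := hx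
          have : y = x := by simpa using he
          exact this ▸ hy
      obtain ⟨l, hl, hlx⟩ := inner_of_sz h7 hF e₁ hgn
      have : l⁻¹ * g = 1 := hCE _ fun K hK x hx => by
        rw [hone K hK] at hx
        have h2 := hlx x hx
        show x * (l⁻¹ * g) = l⁻¹ * g * x
        calc x * (l⁻¹ * g) = l⁻¹ * (l * x * l⁻¹) * g := by group
          _ = l⁻¹ * g * x := by rw [← h2]; group
      exact (inv_mul_eq_one.mp this) ▸ hl
    exact ⟨((Subgroup.topEquiv.symm.trans (MulEquiv.subgroupCongr htop.symm)).trans e₁)⟩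
  push Not at hone
  obtain ⟨K₂, hK₂, h21⟩ := hone
  right
  have hall : ∀ K : Subgroup X, IsComponent K → K = K₁ ∨ K = K₂ := by
    intro K hK
    by_contra hn
    push Not at hn
    obtain ⟨a, ha, hao⟩ := hord K₁ hK₁ 2 Nat.prime_two (by norm_num)
    obtain ⟨b, hb, hbo⟩ := hord K₂ hK₂ 29 (by norm_num) (by norm_num)
    obtain ⟨c, hc, hco⟩ := hord K hK 113 (by norm_num) (by norm_num)
    exact hB.hyp.triple ar_R4 hao hbo hco (by decide) (by decide) (by decide) (by norm_num) (by norm_num) (by norm_num)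
      (hcom K₁ K₂ hK₁ hK₂ h21.symm a ha b hb) (hcom K₁ K hK₁ hK hn.1.symm a ha c hc)
      (hcom K₂ K hK₂ hK hn.2.symm b hb c hc)
  have hc12 := hcom K₁ K₂ hK₁ hK₂ h21.symm
  obtain ⟨F₂, _, _, hF₂, ⟨e₂⟩⟩ := hz K₂ hK₂
  -- a normaliser of both lies in the product
  have hprod : ∀ g : X, K₁.map (MulAut.conj g).toMonoidHom = K₁ → ∃ a ∈ K₁, ∃ b ∈ K₂, g = a * b := by
    intro g hg
    have hn₁ : g ∈ Subgroup.normalizer (K₁ : Set X) := by
      rw [Subgroup.mem_normalizer_iff]
      intro x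
      constructor
      · intro hx; rw [← hg]; exact ⟨x, hx, rfl⟩
      · intro hx
        rw [← hg] at hx
        obtain ⟨y, hy, he⟩ := hx
        have : y = x := by simpa using he
        exact this ▸ hy
    have hg₂ : K₂.map (MulAut.conj g).toMonoidHom = K₂ := by
      rcases hall _ (hconj g K₂ hK₂) with h | h
      · exfalso
        exact h21 (Subgroup.map_injective (f := (MulAut.conj g).toMonoidHom) (MulAut.conj g).injective (h.trans hg.symm))
      · exact h
    have hn₂ : g ∈ Subgroup.normalizer (K₂ : Set X) := by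
      rw [Subgroup.mem_normalizer_iff]
      intro x
      constructor
      · intro hx; rw [← hg₂]; exact ⟨x, hx, rfl⟩
      · intro hx
        rw [← hg₂] at hx
        obtain ⟨y, hy, he⟩ := hx
        have : y = x := by simpa using he
        exact this ▸ hy
    obtain ⟨a, ha, hax⟩ := inner_of_sz h7 hF e₁ hn₁
    obtain ⟨b, hb, hbx⟩ := inner_of_sz h7 hF₂ e₂ hn₂
    refine ⟨a, ha, b, hb, ?_⟩
    have : (a * b)⁻¹ * g = 1 := hCE _ fun K hK x hx => by
      show x * ((a * b)⁻¹ * g) = (a * b)⁻¹ * g * x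
      rcases hall K hK with rfl | rfl
      · have h2 := hax x hx
        have h3 := (hc12 x hx b hb).eq
        have h4 : a * b * x * (a * b)⁻¹ = g * x * g⁻¹ := by
          calc a * b * x * (a * b)⁻¹ = a * (b * x) * b⁻¹ * a⁻¹ := by group
            _ = g * x * g⁻¹ := by rw [← h3, h2]; group
        calc x * ((a * b)⁻¹ * g) = (a * b)⁻¹ * (a * b * x * (a * b)⁻¹) * g := by group
          _ = (a * b)⁻¹ * g * x := by rw [h4]; group
      · have h2 := hbx x hx
        have h4 : a * b * x * (a * b)⁻¹ = g * x * g⁻¹ := by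
          calc a * b * x * (a * b)⁻¹ = a * (b * x * b⁻¹) * a⁻¹ := by group
            _ = b * x * b⁻¹ := by rw [(hc12 a ha _ (mul_mem (mul_mem hb hx) (inv_mem hb))).eq]; group
            _ = g * x * g⁻¹ := h2.symm
        calc x * ((a * b)⁻¹ * g) = (a * b)⁻¹ * (a * b * x * (a * b)⁻¹) * g := by group
          _ = (a * b)⁻¹ * g * x := by rw [h4]; group
    exact (inv_mul_eq_one.mp this).symm
  -- no element interchanges the two
  have hfix : ∀ g : X, K₁.map (MulAut.conj g).toMonoidHom = K₁ := by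
    intro g
    rcases hall _ (hconj g K₁ hK₁) with h | h
    · exact h
    exfalso
    have hg2 : K₂.map (MulAut.conj g).toMonoidHom = K₁ := by
      rcases hall _ (hconj g K₂ hK₂) with h' | h'
      · exact h'
      · exact absurd (Subgroup.map_injective (f := (MulAut.conj g).toMonoidHom) (MulAut.conj g).injective
          (h'.trans h.symm)) h21
    have hsq : K₁.map (MulAut.conj (g * g)).toMonoidHom = K₁ := by
      have : (MulAut.conj (g * g)).toMonoidHom = (MulAut.conj g).toMonoidHom.comp (MulAut.conj g).toMonoidHom := by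
        ext x; simp [mul_assoc]
      rw [this, ← Subgroup.map_map, h, hg2]
    obtain ⟨a, ha, b, hb, hgg⟩ := hprod _ hsq
    obtain ⟨c, hc, hco⟩ := exists_four_sz hF e₁
    set x := a⁻¹ * c
    have hx : x ∈ K₁ := mul_mem (inv_mem ha) hc
    have hd : g⁻¹ * x * g ∈ K₂ := by
      rw [← hg2] at hx
      obtain ⟨y, hy, he⟩ := hx
      have hyx : g * y * g⁻¹ = x := by simpa using he
      have : g⁻¹ * x * g = y := by rw [← hyx]; group
      rw [this]; exact hy
    set d := b * (g⁻¹ * x * g)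
    have hdK : d ∈ K₂ := mul_mem hb hd
    have hsquare : (g * x) ^ 2 = c * d := by
      calc (g * x) ^ 2 = g * g * (g⁻¹ * x * g) * x := by rw [pow_two]; group
        _ = a * (b * (g⁻¹ * x * g) * x) := by rw [hgg]; group
        _ = a * (x * d) := by rw [(hc12 x hx d hdK).eq]
        _ = c * d := by simp only [x]; group
    set n := orderOf (g * x) with hn
    have hodd : 2 ∣ n := by
      by_contra h2
      obtain ⟨k, hk⟩ := Nat.odd_iff.mpr (Nat.two_dvd_ne_zero.mp h2)
      have h1 : (g * x) ^ (2 * k + 1) = 1 := by rw [← hk]; exact pow_orderOf_eq_one _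
      rw [pow_succ, pow_mul, hsquare] at h1
      have h3 : g * x = ((c * d) ^ k)⁻¹ := eq_inv_of_mul_eq_one_right h1
      have hcd : (c * d) ^ k = c ^ k * d ^ k := (hc12 c hc d hdK).mul_pow k
      rw [hcd] at h3
      have hn' : g ∈ Subgroup.normalizer (K₁ : Set X) := by
        have hk1 : K₁ ≤ Subgroup.normalizer (K₁ : Set X) := Subgroup.le_normalizer
        have hk2 : K₂ ≤ Subgroup.normalizer (K₁ : Set X) := fun y hy =>
          Subgroup.centralizer_le_normalizer (s := (K₁ : Set X))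
            (Subgroup.mem_centralizer_iff.mpr fun w hw => (hc12 w hw y hy).eq)
        have hm : g * x ∈ Subgroup.normalizer (K₁ : Set X) := by
          rw [h3]
          exact inv_mem (mul_mem (hk1 (pow_mem hc k)) (hk2 (pow_mem hdK k)))
        simpa using mul_mem hm (inv_mem (hk1 hx))
      refine h21 (h.symm.trans ?_)
      refine le_antisymm ?_ ?_
      · rintro _ ⟨y, hy, rfl⟩
        exact (Subgroup.mem_normalizer_iff.mp hn' y).mp hy
      · intro y hy
        refine ⟨g⁻¹ * y * g, ?_, by simp [mul_assoc]⟩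
        exact (Subgroup.mem_normalizer_iff.mp hn' _).mpr (by simpa [mul_assoc] using hy)
    obtain ⟨k, hk⟩ := hodd
    have h4 : 4 ∣ k := by
      have h1 : (c * d) ^ k = 1 := by rw [← hsquare, ← pow_mul, ← hk, hn, pow_orderOf_eq_one]
      rw [(hc12 c hc d hdK).mul_pow] at h1
      have h2 : c ^ k = 1 := hdis K₁ K₂ hK₁ hK₂ h21.symm _ (pow_mem hc k)
        (by rw [eq_inv_of_mul_eq_one_left h1]; exact inv_mem (pow_mem hdK k))
      exact hco ▸ orderOf_dvd_of_pow_eq_one h2
    obtain ⟨j, hj⟩ := h4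
    refine hB.hyp.exp2 ((g * x) ^ j) ?_
    have hnpos : 0 < n := orderOf_pos _
    rw [orderOf_pow, ← hn, hk, hj]
    rw [show 2 * (4 * j) = 8 * j by ring, Nat.gcd_eq_right (dvd_mul_left j 8), Nat.mul_div_cancel]
    rcases Nat.eq_zero_or_pos j with rfl | h
    · omega
    · exact h
  -- the isomorphism
  obtain ⟨τ⟩ := SuzukiUnique.nonempty_lie_congr (m := 3) (F := F) (F' := F₂) (by norm_num) hF hF₂
  set e₂' : K₂ ≃* ↥(Cfsg.Sz F 3) := e₂.trans ((Suzuki.lieEquiv (m := 3) hF₂ (by norm_num)).trans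
    (τ.trans (Suzuki.lieEquiv (m := 3) hF (by norm_num)).symm))
  set f := MonoidHom.noncommCoprod K₁.subtype K₂.subtype (fun a b => hc12 a a.2 b b.2) with hf
  have hfv : ∀ z, f z = (z.1 : X) * z.2 := fun z => rfl
  have hbij : Function.Bijective f := by
    refine ⟨(injective_iff_map_eq_one f).mpr ?_, fun g => ?_⟩
    · rintro ⟨a, b⟩ h
      rw [hfv] at h
      have ha : (a : X) = 1 := hdis K₁ K₂ hK₁ hK₂ h21.symm _ a.2
        (by rw [eq_inv_of_mul_eq_one_left h]; exact inv_mem b.2)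
      rw [ha, one_mul] at h
      exact Prod.ext (Subtype.ext ha) (Subtype.ext h)
    · obtain ⟨a, ha, b, hb, hg⟩ := hprod g (hfix g)
      exact ⟨(⟨a, ha⟩, ⟨b, hb⟩), by rw [hfv]; exact hg.symm⟩
  exact ⟨(MulEquiv.ofBijective f hbij).symm.trans (e₁.prodCongr e₂')⟩

end CfsgLib.SzSq
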