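import Cfsg.Agent.Lib.SzSquare.Norm
import Cfsg.Agent.Lib.Frobenius.Splitting

/-!
No elementary abelian normal subgroup below the square of `Sz(128)`.
-/

set_option autoImplicit false
set_option linter.unusedSectionVars false

namespace CfsgLib.SzSq

open Subgroup
open scoped IsMulCommutative

universe u v w

variable {G : Type u} [Group G] [Finite G]

/-- No lifted pair of classes commutes with an element of a third class. -/
theorem Bounded.triple_lift (hB : Bounded G) {p q r : ℕ} (hp : p.Prime) (hq : q.Prime) (hr : r.Prime) (hpq : p ≠ q)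
    (hpr : p ≠ r) (hqr : q ≠ r) (hno : ∀ a ∈ tops, ∀ b ∈ tops, ¬ p * (q * r) ∣ Nat.lcm a b) {y w : G}
    (hy : q * r ∣ orderOf y) (hw : orderOf w = p) (hyw : Commute y w) : False := by
  obtain ⟨k, hk⟩ := hy
  have hk0 : k ≠ 0 := by
    rintro rfl
    rw [mul_zero] at hk
    exact (orderOf_pos y).ne' hk
  have ho : orderOf (y ^ k) = q * r := by
    rw [orderOf_pow, hk, Nat.gcd_eq_right (dvd_mul_left k _), Nat.mul_div_cancel _ (Nat.pos_of_ne_zero hk0)]
  have hc := (hyw.pow_left k).orderOf_mul_eq_mul_orderOf_of_coprime (by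
    rw [ho, hw]
    exact Nat.Coprime.mul_left ((Nat.coprime_primes hq hp).mpr hpq.symm) ((Nat.coprime_primes hr hp).mpr hpr.symm))
  rw [ho, hw, mul_comm] at hc
  obtain ⟨a, ha, b, hb, hd⟩ := hB (y ^ k * w)
  exact hno a ha b hb (hc ▸ hd)

variable {F : Type w} [Field F] [Fintype F] (hF : Fintype.card F = 2 ^ (2 * 3 + 1))
include hF

theorem exists_sz_order {p : ℕ} (hp : p.Prime) (hd : p ∣ 2 ^ 14 * 5 * 29 * 113 * 127) :
    ∃ x : ↥(Cfsg.Sz F 3), orderOf x = p := by
  haveI := Fact.mk hp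
  exact exists_prime_orderOf_dvd_card' p (by rw [Suzuki.card_Sz hF (by norm_num)]; exact hd.trans (by norm_num))

/-- Two commuting involutions. -/
theorem exists_pair_invol : ∃ a b : ↥(Cfsg.Sz F 3), orderOf a = 2 ∧ orderOf b = 2 ∧ orderOf (a * b) = 2 ∧
    Commute a b := by
  haveI := Suzuki.charTwo hF
  obtain ⟨t, t0, t1⟩ := Suzuki.exists_not_zero_one hF (by norm_num)
  have hmul : ∀ b c : F, Suzuki.uS hF 0 b * Suzuki.uS hF 0 c = Suzuki.uS hF 0 (b + c) := fun b c => by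
    rw [Suzuki.uS_mul, mul_zero, add_zero, add_zero]
  have ho : ∀ b : F, b ≠ 0 → orderOf (Suzuki.uS hF 0 b) = 2 := fun b hb => by
    refine orderOf_eq_prime (by rw [pow_two, hmul, CharTwo.add_self_eq_zero, Suzuki.uS_zero]) ?_
    intro h
    rw [← Suzuki.uS_zero hF] at h
    exact hb (Suzuki.uS_inj hF h).2
  refine ⟨Suzuki.uS hF 0 1, Suzuki.uS hF 0 t, ho 1 one_ne_zero, ho t t0, ?_, ?_⟩
  · rw [hmul]
    exact ho _ fun h => t1 (CharTwo.add_eq_zero.mp h).symm
  · show _ * _ = _ * _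
    rw [hmul, hmul, add_comm]

variable (V : Subgroup G) [V.Normal] [IsMulCommutative V] {p : ℕ}

/-- Norms vanish when the exponent does not grow. -/
theorem norm_of_exp {H : Type v} [Group H] {n : ℕ} (π : G →* H) (τ : H →* MulAut V)
    (hτ : ∀ g v, ((τ (π g) v : V) : G) = g * v * g⁻¹) (hker : ∀ v ∈ V, π v = 1)
    (hsurj : Function.Surjective π) (hexp : ∀ g : G, π g ^ n = 1 → g ^ n = 1) {y : H} (hy : y ^ n = 1) (v : V) :
    ∏ i ∈ Finset.range n, τ (y ^ i) v = 1 := by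
  obtain ⟨g, rfl⟩ := hsurj y
  have hn : g ∈ Subgroup.normalizer (V : Set G) := by rw [Subgroup.normalizer_eq_top]; trivial
  have h1 := CfsgLib.Frob.mul_pow_eq_prod V hn v n
  rw [hexp g hy, mul_one, hexp ((v : G) * g) (by rw [map_mul, hker v v.2, one_mul, hy])] at h1
  refine Eq.trans (Finset.prod_congr rfl fun i _ => ?_) (Subtype.ext h1.symm)
  apply Subtype.ext
  rw [← map_pow, hτ]
  rfl

/-- A factor of the square acts trivially. -/
theorem factor_trivial (hB : Bounded G) (hp : p.Prime) (hVp : ∀ v ∈ V, v ^ p = 1)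
    (π : G →* ↥(Cfsg.Sz F 3) × ↥(Cfsg.Sz F 3)) (hsurj : Function.Surjective π) (hker : π.ker = V)
    (τ : ↥(Cfsg.Sz F 3) × ↥(Cfsg.Sz F 3) →* MulAut V) (hτ : ∀ g v, ((τ (π g) v : V) : G) = g * v * g⁻¹)
    (hpmem : p ∈ ({2, 5, 29, 113, 127} : Finset ℕ)) : τ.comp (MonoidHom.inl _ _) = 1 := by
  classical
  haveI : Fact p.Prime := ⟨hp⟩
  set S := ↥(Cfsg.Sz F 3)
  set τ₁ := τ.comp (MonoidHom.inl S S) with hτ₁
  have hkerV : ∀ v ∈ V, π v = 1 := fun v hv => MonoidHom.mem_ker.mp (hker ▸ hv)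
  have hmem : ∀ g, π g = 1 → g ∈ V := fun g hg => hker ▸ MonoidHom.mem_ker.mpr hg
  have hVc : ∀ k : ℕ, ¬ p ∣ k → (Nat.card V).Coprime k := by
    intro k hk
    obtain ⟨j, hj⟩ := (isPGroup_of_exp hVp).exists_card_eq
    rw [hj]
    exact Nat.Coprime.pow_left j (hp.coprime_iff_not_dvd.mpr hk)
  simp only [Finset.mem_insert, Finset.mem_singleton] at hpmem
  -- the exponents do not grow
  have hexp2 : p = 2 → ∀ g : G, π g ^ 4 = 1 → g ^ 4 = 1 := by
    intro h2 g hg
    have hgV : g ^ 4 ∈ V := hmem _ (by rw [map_pow, hg])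
    have h8 : g ^ 8 = 1 := by
      have := hVp _ hgV
      rwa [h2, ← pow_mul] at this
    obtain ⟨k, hk, hok⟩ := (Nat.dvd_prime_pow Nat.prime_two).mp
      (show orderOf g ∣ 2 ^ 3 from orderOf_dvd_of_pow_eq_one h8)
    rcases Nat.lt_or_ge k 3 with h | h
    · exact orderOf_dvd_iff_pow_eq_one.mp (hok ▸ (pow_dvd_pow 2 (by omega : k ≤ 2)))
    · exact absurd (by rw [hok, show k = 3 by omega]; norm_num) (hB.hyp.exp2 g)
  have hexp127 : p = 127 → ∀ g : G, π g ^ 127 = 1 → g ^ 127 = 1 := by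
    intro h g hg
    have hgV : g ^ 127 ∈ V := hmem _ (by rw [map_pow, hg])
    have h2 : g ^ (127 ^ 2) = 1 := by
      have := hVp _ hgV
      rwa [h, ← pow_mul, ← pow_two] at this
    obtain ⟨k, hk, hok⟩ := (Nat.dvd_prime_pow (by norm_num : Nat.Prime 127)).mp (orderOf_dvd_of_pow_eq_one h2)
    rcases Nat.lt_or_ge k 2 with h' | h'
    · exact orderOf_dvd_iff_pow_eq_one.mp (hok ▸ (pow_dvd_pow 127 (by omega : k ≤ 1)).trans (by norm_num))
    · exact absurd (by rw [hok, show k = 2 by omega]) (hB.hyp.expp g 127 (by decide) (by norm_num))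
  have hnorm : ∀ n : ℕ, (∀ g : G, π g ^ n = 1 → g ^ n = 1) → ∀ y : S, y ^ n = 1 → ∀ v : V,
      ∏ i ∈ Finset.range n, τ₁ (y ^ i) v = 1 := by
    intro n hexp y hy v
    have := norm_of_exp hF V π τ hτ hkerV hsurj hexp (y := ((y, 1) : S × S)) (by simp [hy]) v
    simpa [hτ₁] using this
  rcases eq_or_ne p 2 with hp2 | hp2
  · -- two-groups
    obtain ⟨e, g, he, hg, hge, hfpf⟩ := exists_frob hF (r := 113) (Or.inr rfl)
    have he1 : e ≠ 1 := fun h => by rw [h, orderOf_one] at he; norm_num at he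
    refine trivial_of_kills hF τ₁ he1 (norm_kill τ₁ (Subgroup.zpowers e) (n := 4) (by norm_num) hge hfpf ?_ ?_ e
      (Subgroup.mem_zpowers e))
    · refine hVc _ ?_
      rw [Nat.card_zpowers, he, hp2]
      norm_num
    · intro x _ v
      exact hnorm 4 (hexp2 hp2) _ (by rw [conj_pow, orderOf_dvd_iff_pow_eq_one.mp (dvd_of_eq hg), mul_one, mul_inv_cancel]) v
  obtain ⟨t, ht, htZ, hfpf⟩ := exists_frob_torus hF
  have ht127 : t ^ 127 = 1 := ht ▸ pow_orderOf_eq_one t
  obtain ⟨a, b, ha, hb, hab, habc⟩ := exists_pair_invol hF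
  obtain ⟨z, hzZ, hz1⟩ : ∃ z ∈ Suzuki.Z hF, z ≠ 1 := by
    by_contra hn
    push Not at hn
    have h := card_Z hF
    rw [(Subgroup.eq_bot_iff_forall _).mpr hn, Subgroup.card_bot] at h
    norm_num at h
  have hcopZ : (Nat.card V).Coprime (Nat.card (Suzuki.Z hF)) := by
    refine hVc _ ?_
    rw [card_Z hF]
    exact fun h => hp2 ((Nat.prime_dvd_prime_iff_eq hp Nat.prime_two).mp (hp.dvd_of_dvd_pow h))
  have hkill := fun hN => trivial_of_kills hF τ₁ hz1
    (norm_kill τ₁ (Suzuki.Z hF) (n := 127) (by norm_num) htZ hfpf hcopZ hN z hzZ)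
  rcases eq_or_ne p 127 with hp127 | hp127
  · refine hkill fun x _ v => hnorm 127 (hexp127 hp127) _ ?_ v
    rw [conj_pow, ht127, mul_one, mul_inv_cancel]
  by_cases hfix : ∀ v : V, τ₁ t v = v → v = 1
  · exact hkill fun x _ v => norm_of_fpf τ₁ ht127 hfix x v
  exfalso
  push Not at hfix
  obtain ⟨w, hw, hw1⟩ := hfix
  -- an involution of the other factor fixes a point
  have h2 : ∀ c : S, orderOf c = 2 → (∃ v : V, v ≠ 1 ∧ τ₁ t v = v ∧ τ (1, c) v = v) ∨ τ (1, c) w = w⁻¹ := by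
    intro c hc
    by_cases h1 : w * τ (1, c) w = 1
    · exact Or.inr (inv_eq_of_mul_eq_one_right h1).symm
    refine Or.inl ⟨_, h1, ?_, ?_⟩
    · rw [map_mul, hw]
      congr 1
      show τ (t, 1) (τ (1, c) w) = τ (1, c) w
      rw [← MulAut.mul_apply, ← map_mul, show ((t, 1) : S × S) * (1, c) = (1, c) * (t, 1) by simp, map_mul,
        MulAut.mul_apply]
      exact congrArg _ hw
    · rw [map_mul, ← MulAut.mul_apply, ← map_mul]
      have : ((1, c) : S × S) * (1, c) = 1 := by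
        rw [Prod.mk_mul_mk, one_mul, ← pow_two, ← hc, pow_orderOf_eq_one]
        rfl
      rw [this, map_one, MulAut.one_apply, mul_comm]
  obtain ⟨c, hc, v, hv1, hvt, hvc⟩ : ∃ c : S, orderOf c = 2 ∧ ∃ v : V, v ≠ 1 ∧ τ₁ t v = v ∧ τ (1, c) v = v := by
    rcases h2 a ha with h | hwa
    · exact ⟨a, ha, h⟩
    rcases h2 b hb with h | hwb
    · exact ⟨b, hb, h⟩
    refine ⟨a * b, hab, w, hw1, hw, ?_⟩
    rw [show ((1, a * b) : S × S) = (1, a) * (1, b) by simp, map_mul, MulAut.mul_apply, hwb, map_inv, hwa, inv_inv]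
  obtain ⟨y, hy⟩ := hsurj (t, c)
  have hyv : Commute y (v : G) := by
    have h3 : ((τ (π y) v : V) : G) = v := by
      rw [hy, show ((t, c) : S × S) = (t, 1) * (1, c) by simp, map_mul, MulAut.mul_apply, hvc]
      exact congrArg Subtype.val hvt
    rw [hτ] at h3
    exact mul_inv_eq_iff_eq_mul.mp h3
  have hyo : 127 * 2 ∣ orderOf y := by
    have : orderOf (π y) = 127 * 2 := by
      rw [hy, Prod.orderOf_mk, ht, hc]
      norm_num
    rw [← this]
    exact orderOf_map_dvd π y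
  have hvo : orderOf (v : G) = p := orderOf_eq_prime (hVp v v.2) fun h => hv1 (Subtype.ext h)
  refine hB.triple_lift hp (by norm_num) Nat.prime_two hp127 hp2 (by norm_num) ?_ hyo hvo hyv
  rcases hpmem with rfl | rfl | rfl | rfl | rfl
  · exact absurd rfl hp2
  · decide +kernel
  · decide +kernel
  · decide +kernel
  · exact absurd rfl hp127

/-- There is no such normal subgroup. -/
theorem square_false (hB : Bounded G) (hp : p.Prime) (hVp : ∀ v ∈ V, v ^ p = 1) (hV : V ≠ ⊥)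
    (π : G →* ↥(Cfsg.Sz F 3) × ↥(Cfsg.Sz F 3)) (hsurj : Function.Surjective π) (hker : π.ker = V) : False := by
  haveI : Fact p.Prime := ⟨hp⟩
  set S := ↥(Cfsg.Sz F 3)
  have hle : π.ker ≤ (MulAut.conjNormal : G →* MulAut V).ker := by
    intro x hx
    rw [hker] at hx
    refine MonoidHom.mem_ker.mpr (MulEquiv.ext fun v => Subtype.ext ?_)
    rw [MulAut.conjNormal_apply, MulAut.one_apply]
    have := congrArg Subtype.val ((inferInstance : IsMulCommutative V).is_comm.comm ⟨x, hx⟩ v)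
    exact mul_inv_eq_iff_eq_mul.mpr this
  set τ : S × S →* MulAut V := π.liftOfSurjective hsurj ⟨MulAut.conjNormal, hle⟩
  have hτ : ∀ g v, ((τ (π g) v : V) : G) = g * v * g⁻¹ := fun g v => by
    simp only [τ, MonoidHom.liftOfRightInverse_comp_apply]
    rfl
  obtain ⟨⟨w, hw⟩, hw1⟩ := Subgroup.ne_bot_iff_exists_ne_one.mp hV
  have hwo : orderOf w = p := orderOf_eq_prime (hVp w hw) fun h => hw1 (Subtype.ext h)
  have hpmem : p ∈ ({2, 5, 29, 113, 127} : Finset ℕ) := hB.prime_mem hp (hwo ▸ orderOf_dvd_natCard w)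
  have h1 := factor_trivial hF V hB hp hVp π hsurj hker τ hτ hpmem
  set σ : S × S ≃* S × S := MulEquiv.prodComm
  have h2 := factor_trivial hF V hB hp hVp (σ.toMonoidHom.comp π) (σ.surjective.comp hsurj)
    (by rw [← MonoidHom.comap_ker, (MonoidHom.ker_eq_bot_iff σ.toMonoidHom).mpr σ.injective, MonoidHom.comap_bot, hker])
    (τ.comp σ.symm.toMonoidHom) (fun g v => by simpa using hτ g v) hpmem
  have htriv : ∀ x : S × S, τ x = 1 := by
    intro x
    have e1 : τ (x.1, 1) = 1 := DFunLike.congr_fun h1 x.1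
    have e2 : τ (1, x.2) = 1 := DFunLike.congr_fun h2 x.2
    rw [show x = (x.1, 1) * (1, x.2) by simp, map_mul, e1, e2, mul_one]
  obtain ⟨q, r, hq, hr, hqd, hrd, hpq, hpr, hqr, hno⟩ : ∃ q r : ℕ, q.Prime ∧ r.Prime ∧
      q ∣ 2 ^ 14 * 5 * 29 * 113 * 127 ∧ r ∣ 2 ^ 14 * 5 * 29 * 113 * 127 ∧ p ≠ q ∧ p ≠ r ∧ q ≠ r ∧
      ∀ a ∈ tops, ∀ b ∈ tops, ¬ p * (q * r) ∣ Nat.lcm a b := by
    simp only [Finset.mem_insert, Finset.mem_singleton] at hpmem
    rcases hpmem with rfl | rfl | rfl | rfl | rfl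
    · exact ⟨29, 113, by norm_num, by norm_num, by norm_num, by norm_num, by norm_num, by norm_num, by norm_num,
        by decide +kernel⟩
    · exact ⟨2, 127, Nat.prime_two, by norm_num, by norm_num, by norm_num, by norm_num, by norm_num, by norm_num,
        by decide +kernel⟩
    · exact ⟨2, 127, Nat.prime_two, by norm_num, by norm_num, by norm_num, by norm_num, by norm_num, by norm_num,
        by decide +kernel⟩
    · exact ⟨2, 127, Nat.prime_two, by norm_num, by norm_num, by norm_num, by norm_num, by norm_num, by norm_num,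
        by decide +kernel⟩
    · exact ⟨2, 113, Nat.prime_two, by norm_num, by norm_num, by norm_num, by norm_num, by norm_num, by norm_num,
        by decide +kernel⟩
  obtain ⟨x, hx⟩ := exists_sz_order hF hq hqd
  obtain ⟨z, hz⟩ := exists_sz_order hF hr hrd
  obtain ⟨y, hy⟩ := hsurj (x, z)
  refine hB.triple_lift hp hq hr hpq hpr hqr hno (y := y) ?_ hwo ?_
  · have : orderOf (π y) = q * r := by
      rw [hy, Prod.orderOf_mk, hx, hz]
      exact Nat.Coprime.lcm_eq_mul ((Nat.coprime_primes hq hr).mpr hqr)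
    rw [← this]
    exact orderOf_map_dvd π y
  · have h := hτ y ⟨w, hw⟩
    rw [htriv, MulAut.one_apply] at h
    exact mul_inv_eq_iff_eq_mul.mp h.symm

end CfsgLib.SzSq
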