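import Cfsg.Agent.Lib.SzSquare.Solvable
import Cfsg.Agent.Lib.SzSquare.Socle
import Cfsg.Agent.Lib.SzSquare.Square
import Cfsg.Agent.Lib.SzSquare.Final

/-!
The square of `Sz(128)` is determined by its element orders.
-/

set_option autoImplicit false
set_option linter.unusedSectionVars false

namespace CfsgLib.SzSq

open Subgroup Cfsg

universe u v w

variable {G : Type u} [Group G] [Finite G]

/-- A soluble subgroup cannot have rank two for all four primes. -/
theorem no_fat_solvable (hB : Bounded G) {B : Subgroup G} (hsol : Group.IsSolvable B) (h : ∀ t ∈ R4, Fat t B) :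
    False := by
  obtain ⟨H, hH⟩ := CfsgLib.exists_isPiHallOf (↑R4 : Set ℕ) hsol
  haveI : Group.IsSolvable H := by
    haveI := hsol
    exact Group.isSolvable_of_isSolvable_injective (f := Subgroup.inclusion hH.1) (Subgroup.inclusion_injective _)
  refine no_solvable (G := H) ar_R4 (hB.hyp.subgroup H) (fun t ht hd => Finset.mem_coe.mp (hH.2.1 t ht hd)) fun t ht => ?_
  have := fat_subgroupOf (fat_hall (ar_R4.prime t ht) (π := (↑R4 : Set ℕ)) ht hsol hH (h t ht)) le_rfl
  rwa [Subgroup.subgroupOf_self] at this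

theorem not_solvable (hG : Spec G) : ¬ Group.IsSolvable G := by
  intro hs
  haveI := hs
  by_cases h : ∀ t ∈ R4, Fat t (⊤ : Subgroup G)
  · exact no_fat_solvable (show Bounded G from hG.dvd) inferInstance h
  · push Not at h
    obtain ⟨r, hr, hthin⟩ := h
    exact thin_false hG hr hthin fun x _ => inferInstance

theorem solvableRadical_quotient :
    solvableRadical (G ⧸ solvableRadical G) = ⊥ := by
  set K := solvableRadical G
  haveI := CfsgLib.isSolvable_solvableRadical (G := G)
  set M := solvableRadical (G ⧸ K)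
  haveI := CfsgLib.isSolvable_solvableRadical (G := G ⧸ K)
  set N := M.comap (QuotientGroup.mk' K)
  have hle : K ≤ N := fun k hk => by
    show QuotientGroup.mk' K k ∈ M
    rw [show QuotientGroup.mk' K k = 1 from (QuotientGroup.eq_one_iff k).mpr hk]
    exact one_mem _
  have hNs : Group.IsSolvable N := by
    refine Group.isSolvable_of_ker_le_range (Subgroup.inclusion hle)
      (((QuotientGroup.mk' K).comp N.subtype).codRestrict M fun n => n.2) ?_
    intro n hn
    have h1 : QuotientGroup.mk' K (n : G) = 1 := congrArg Subtype.val (MonoidHom.mem_ker.mp hn)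
    exact ⟨⟨(n : G), (QuotientGroup.eq_one_iff _).mp h1⟩, Subtype.ext rfl⟩
  have hNK : N ≤ K := CfsgLib.le_solvableRadical hNs
  rw [← Subgroup.map_comap_eq_self_of_surjective (QuotientGroup.mk'_surjective K) M]
  rw [Subgroup.map_eq_bot_iff, QuotientGroup.ker_mk']
  exact hNK

variable {F : Type w} [Field F] [Fintype F] (hF : Fintype.card F = 2 ^ (2 * 3 + 1))
include hF

/-- Only one factor is impossible. -/
theorem one_factor_false (hG : Spec G) (π : G →* ↥(Cfsg.Sz F 3)) (hsurj : Function.Surjective π)
    (hK : Group.IsSolvable π.ker) : False := by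
  classical
  have hB : Bounded G := hG.dvd
  have hall : ∀ t ∈ ({29, 113, 127} : Finset ℕ), t ∣ Nat.card π.ker := by
    intro t ht
    have htR : t ∈ R4 ∧ t ≠ 2 := by
      simp only [Finset.mem_insert, Finset.mem_singleton] at ht
      rcases ht with rfl | rfl | rfl <;> exact ⟨by decide, by norm_num⟩
    by_contra hd
    have htp := ar_R4.prime t htR.1
    haveI := Fact.mk htp
    refine thin_false hG htR.1 ?_ fun x hx => ?_
    · rintro ⟨A, -, hA, hAc⟩
      haveI := hA.1
      have hcop : ∀ a ∈ A, π a = 1 → a = 1 := by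
        intro a ha h
        by_contra h1
        exact hd (orderOf_ea htp hA ha h1 ▸ Subgroup.orderOf_dvd_natCard _ (MonoidHom.mem_ker.mpr h))
      have hAp : IsPGroup t A := IsPGroup.of_card hAc
      obtain ⟨P, hP⟩ := (hAp.map π).exists_le_sylow
      haveI := Suzuki.isCyclic_sylow_odd hF (by norm_num) htR.2 P
      haveI : IsCyclic (A.map π) := isCyclic_of_injective (Subgroup.inclusion hP) (Subgroup.inclusion_injective _)
      refine Signalizer.ea_not_cyclic hA (by rw [hAc, pow_two]; exact lt_mul_of_one_lt_right htp.pos htp.one_lt)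
        (isCyclic_of_injective (π.subgroupMap A) ?_)
      rw [injective_iff_map_eq_one]
      exact fun a ha => Subtype.ext (hcop a a.2 (congrArg Subtype.val ha))
    · refine cent_solvable hF π hK (fun h => ?_) ?_
      · exact hd (hx ▸ Subgroup.orderOf_dvd_natCard _ (MonoidHom.mem_ker.mpr h))
      · rw [hx]
        exact fun h => htR.2 ((Nat.prime_dvd_prime_iff_eq Nat.prime_two htp).mp h).symm
  by_cases h29 : 29 ^ 2 ∣ Nat.card π.ker
  swap
  · exact single_prime_false hF π hB hsurj hK (Or.inl rfl) (hall 29 (by decide)) h29 hall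
  by_cases h113 : 113 ^ 2 ∣ Nat.card π.ker
  swap
  · exact single_prime_false hF π hB hsurj hK (Or.inr rfl) (hall 113 (by decide)) h113 hall
  -- the preimage of a Borel subgroup
  set st := MulAction.stabilizer ↥(Cfsg.Sz F 3) (suzukiPointInfinity F)
  set B := st.comap π
  have hinf : suzukiPointInfinity F ∈ suzukiOvoid F 3 := Suzuki.inf_mem
  have hKB : π.ker ≤ B := fun k hk => by
    show π k ∈ st
    rw [MonoidHom.mem_ker.mp hk]
    exact one_mem _
  set f : B →* st := (π.comp B.subtype).codRestrict st fun b => b.2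
  have hfs : Function.Surjective f := by
    rintro ⟨s, hs⟩
    obtain ⟨b, rfl⟩ := hsurj s
    exact ⟨⟨b, hs⟩, Subtype.ext rfl⟩
  have hfk : f.ker = π.ker.subgroupOf B := by
    ext b
    rw [MonoidHom.mem_ker, Subgroup.mem_subgroupOf, MonoidHom.mem_ker]
    exact ⟨fun h => congrArg Subtype.val h, fun h => Subtype.ext h⟩
  haveI : Group.IsSolvable st := Suzuki.borel_solvable hF (by norm_num) hinf
  haveI := hK
  have hBs : Group.IsSolvable B := by
    refine Group.isSolvable_of_ker_le_range (Subgroup.inclusion hKB) f ?_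
    intro b hb
    rw [hfk, Subgroup.mem_subgroupOf] at hb
    exact ⟨⟨b, hb⟩, Subtype.ext rfl⟩
  have hBcard : Nat.card B = Nat.card st * Nat.card π.ker := by
    rw [Subgroup.card_eq_card_quotient_mul_card_subgroup f.ker,
      Nat.card_congr (QuotientGroup.quotientKerEquivOfSurjective f hfs).toEquiv, hfk,
      Nat.card_congr (Subgroup.subgroupOfEquivOfLe hKB).toEquiv]
  have h127 : 127 ^ 2 ∣ Nat.card B := by
    rw [hBcard, pow_two]
    refine mul_dvd_mul ?_ (hall 127 (by decide))
    rw [show st = MulAction.stabilizer ↥(Cfsg.Sz F 3) (suzukiPointInfinity F) from rfl, Suzuki.card_stab hF (by norm_num) hinf]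
    norm_num
  refine no_fat_solvable hB hBs fun t ht => ?_
  simp only [R4, Finset.mem_insert, Finset.mem_singleton] at ht
  rcases ht with rfl | rfl | rfl | rfl
  · refine fat_two_of_onto hF π hB ?_
    rw [Subgroup.map_comap_eq_self_of_surjective hsurj]
    intro u hu
    obtain ⟨a, b, rfl⟩ := (Suzuki.mem_U hF).mp hu
    exact Suzuki.smul_uS_inf hF a b
  · exact (fat_of_sq_dvd hB (by decide) (by norm_num) h29).mono hKB
  · exact (fat_of_sq_dvd hB (by decide) (by norm_num) h113).mono hKB
  · exact fat_of_sq_dvd hB (by decide) (by norm_num) h127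

/-- Below two factors the radical is trivial. -/
theorem radical_bot (hB : Bounded G) (π : G →* ↥(Cfsg.Sz F 3) × ↥(Cfsg.Sz F 3)) (hsurj : Function.Surjective π)
    (hK : Group.IsSolvable π.ker) : π.ker = ⊥ := by
  by_contra hne
  set K := π.ker
  obtain ⟨K₀, ⟨hK₀n, hK₀⟩, hmax⟩ := (Set.toFinite {N : Subgroup G | N.Normal ∧ N < K}).exists_maximal
    ⟨⊥, inferInstance, bot_lt_iff_ne_bot.mpr hne⟩
  haveI := hK₀n
  set q := QuotientGroup.mk' K₀
  set V := K.map q
  haveI : V.Normal := (MonoidHom.normal_ker π).map q (QuotientGroup.mk'_surjective K₀)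
  have hV : V ≠ ⊥ := by
    intro h
    rw [Subgroup.map_eq_bot_iff, QuotientGroup.ker_mk'] at h
    exact hK₀.not_ge h
  have hVs : Group.IsSolvable V := by
    haveI := hK
    exact Group.isSolvable_of_surjective (f := q.subgroupMap K) (MonoidHom.subgroupMap_surjective q K)
  have hmin : ∀ N : Subgroup (G ⧸ K₀), N.Normal → N ≤ V → N = ⊥ ∨ N = V := by
    intro N hN hle
    by_cases hNV : N = V
    · exact Or.inr hNV
    left
    have h1 : N.comap q ≤ K := by
      intro x hx
      obtain ⟨k, hk, e⟩ := hle hx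
      have : k⁻¹ * x ∈ K₀ := QuotientGroup.eq.mp e
      simpa using mul_mem hk (hK₀.le this)
    have h2 : N.comap q ≠ K := fun e => hNV (by
      rw [← Subgroup.map_comap_eq_self_of_surjective (QuotientGroup.mk'_surjective K₀) N]
      show (N.comap q).map q = V
      rw [e])
    have h3 : K₀ ≤ N.comap q := fun x hx => by
      show q x ∈ N
      rw [show q x = 1 from (QuotientGroup.eq_one_iff x).mpr hx]
      exact one_mem _
    have h4 : N.comap q ≤ K₀ := hmax ⟨hN.comap q, lt_of_le_of_ne h1 h2⟩ h3
    rw [← Subgroup.map_comap_eq_self_of_surjective (QuotientGroup.mk'_surjective K₀) N, Subgroup.map_eq_bot_iff,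
      QuotientGroup.ker_mk']
    exact h4
  obtain ⟨hVc, p, hp, hVp⟩ := CfsgLib.minimal_normal_elementary hV hVs hmin
  haveI := hVc
  have hle : K₀ ≤ π.ker := hK₀.le
  refine square_false hF V (hB.of_hom q (QuotientGroup.mk'_surjective K₀)) hp hVp hV (QuotientGroup.lift K₀ π hle)
    ?_ ?_
  · intro s
    obtain ⟨g, rfl⟩ := hsurj s
    exact ⟨q g, rfl⟩
  · exact QuotientGroup.ker_lift K₀ π hle

omit hF

/-- Recognition. -/
theorem recognize (hG : Spec G) :
    ∃ (F : Type) (_ : Field F) (_ : Fintype F), Fintype.card F = 2 ^ 7 ∧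
      Nonempty (G ≃* ↥(Cfsg.Sz F 3) × ↥(Cfsg.Sz F 3)) := by
  have hB : Bounded G := hG.dvd
  set K := solvableRadical G
  have hKs : Group.IsSolvable K := CfsgLib.isSolvable_solvableRadical
  haveI : Nontrivial (G ⧸ K) := by
    rw [← not_subsingleton_iff_nontrivial]
    intro h
    refine not_solvable hG ?_
    haveI := hKs
    exact (Group.isSolvable_iff_subgroup_quotient K).mpr ⟨inferInstance, inferInstance⟩
  obtain ⟨F, iF, iFf, hF, h | h⟩ :=
    socle_cases (solvableRadical_quotient (G := G)) (hB.of_hom (QuotientGroup.mk' K) (QuotientGroup.mk'_surjective K))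
  · obtain ⟨e⟩ := h
    refine (one_factor_false (F := F) hF hG (e.toMonoidHom.comp (QuotientGroup.mk' K))
      (e.surjective.comp (QuotientGroup.mk'_surjective K)) ?_).elim
    rw [MonoidHom.ker_comp_of_injective _ _ e.injective, QuotientGroup.ker_mk']
    exact hKs
  · obtain ⟨e⟩ := h
    set π := e.toMonoidHom.comp (QuotientGroup.mk' K)
    have hk : π.ker = K := by rw [MonoidHom.ker_comp_of_injective _ _ e.injective, QuotientGroup.ker_mk']
    have h0 := radical_bot (F := F) hF hB π (e.surjective.comp (QuotientGroup.mk'_surjective K)) (hk.symm ▸ hKs)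
    refine ⟨F, iF, iFf, hF, ⟨MulEquiv.ofBijective π ⟨?_, e.surjective.comp (QuotientGroup.mk'_surjective K)⟩⟩⟩
    exact (MonoidHom.ker_eq_bot_iff π).mp h0

end CfsgLib.SzSq
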