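import Cfsg.Agent.Lib.SzSquare.Facts
import Cfsg.Agent.Lib.Suzuki.Solvable
import Cfsg.Agent.Lib.Suzuki.Sylow

/-!
Frobenius subgroups of `Sz(128)` and the norm argument for their modules.
-/

set_option autoImplicit false
set_option linter.unusedSectionVars false

namespace CfsgLib.SzSq

open Subgroup

universe u v w

/-- A coprime Frobenius kernel with trivial norms acts trivially. -/
theorem norm_kill {H : Type u} [Group H] [Finite H] {V : Type v} [CommGroup V] [Finite V] (τ : H →* MulAut V)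
    (E : Subgroup H) {g : H} {n : ℕ} (hn : 0 < n) (hgE : g ∈ Subgroup.normalizer (E : Set H))
    (hfpf : ∀ i, 0 < i → i < n → ∀ x ∈ E, Commute (g ^ i) x → x = 1)
    (hcop : (Nat.card V).Coprime (Nat.card E))
    (hN : ∀ x ∈ E, ∀ v : V, ∏ i ∈ Finset.range n, τ ((x * g * x⁻¹) ^ i) v = 1) : ∀ x ∈ E, τ x = 1 := by
  classical
  haveI := Fintype.ofFinite E
  intro e he
  have hM : ∀ w : V, τ e (∏ x : E, τ (x : H) w) = ∏ x : E, τ (x : H) w := by
    intro w
    rw [map_prod]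
    refine Fintype.prod_equiv (Equiv.mulLeft (⟨e, he⟩ : E)) _ _ fun x => ?_
    show τ e (τ (x : H) w) = τ ((⟨e, he⟩ * x : E) : H) w
    rw [← MulAut.mul_apply, ← map_mul]
    rfl
  refine MulEquiv.ext fun v => ?_
  rw [MulAut.one_apply]
  have h1 : ∏ i ∈ Finset.range n, ∏ x : E, τ (((x : H) * g * (x : H)⁻¹) ^ i) v = 1 := by
    rw [Finset.prod_comm]
    exact Finset.prod_eq_one fun x _ => hN x x.2 v
  have hterm : ∀ i ∈ Finset.range n, 0 < i →
      ∏ x : E, τ (((x : H) * g * (x : H)⁻¹) ^ i) v = ∏ x : E, τ (x : H) (τ (g ^ i) v) := by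
    intro i hi hi0
    rw [Finset.mem_range] at hi
    set φ : E → E := fun x => ⟨(x : H) * (g ^ i * (x : H)⁻¹ * (g ^ i)⁻¹),
      mul_mem x.2 ((Subgroup.mem_normalizer_iff.mp (pow_mem hgE i) _).mp (inv_mem x.2))⟩ with hφ
    have hinj : Function.Injective φ := by
      intro x y hxy
      have h2 : (x : H) * (g ^ i * (x : H)⁻¹ * (g ^ i)⁻¹) = (y : H) * (g ^ i * (y : H)⁻¹ * (g ^ i)⁻¹) :=
        congrArg Subtype.val hxy
      have h3 : Commute (g ^ i) ((y : H)⁻¹ * x) := by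
        show g ^ i * ((y : H)⁻¹ * x) = (y : H)⁻¹ * x * g ^ i
        calc g ^ i * ((y : H)⁻¹ * x)
            = (y : H)⁻¹ * ((y : H) * (g ^ i * (y : H)⁻¹ * (g ^ i)⁻¹)) * g ^ i * x := by group
          _ = (y : H)⁻¹ * x * g ^ i := by rw [← h2]; group
      exact Subtype.ext (inv_mul_eq_one.mp (hfpf i hi0 hi _ (mul_mem (inv_mem y.2) x.2) h3)).symm
    refine Fintype.prod_equiv (Equiv.ofBijective φ (Finite.injective_iff_bijective.mp hinj)) _ _ fun x => ?_
    show τ (((x : H) * g * (x : H)⁻¹) ^ i) v = τ ((x : H) * (g ^ i * (x : H)⁻¹ * (g ^ i)⁻¹)) (τ (g ^ i) v)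
    rw [← MulAut.mul_apply, ← map_mul, conj_pow]
    congr 2
    group
  have hrange : Finset.range n = insert 0 ((Finset.range n).erase 0) :=
    (Finset.insert_erase (Finset.mem_range.mpr hn)).symm
  rw [hrange, Finset.prod_insert (Finset.notMem_erase 0 _)] at h1
  have hzero : ∏ x : E, τ (((x : H) * g * (x : H)⁻¹) ^ 0) v = v ^ Nat.card E := by
    simp [Nat.card_eq_fintype_card]
  rw [hzero, Finset.prod_congr rfl fun i hi => hterm i (Finset.mem_of_mem_erase hi)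
    (Nat.pos_of_ne_zero (Finset.ne_of_mem_erase hi))] at h1
  have hfix : τ e (v ^ Nat.card E) = v ^ Nat.card E := by
    rw [eq_inv_of_mul_eq_one_left h1, map_inv, map_prod]
    exact congrArg _ (Finset.prod_congr rfl fun i _ => hM _)
  rw [map_pow] at hfix
  exact (powCoprime hcop).injective hfix

/-- Norms are trivial when the generator has no fixed points. -/
theorem norm_of_fpf {H : Type u} [Group H] {V : Type v} [CommGroup V] (τ : H →* MulAut V) {g : H} {n : ℕ}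
    (hg : g ^ n = 1) (h : ∀ v : V, τ g v = v → v = 1) (x : H) (v : V) :
    ∏ i ∈ Finset.range n, τ ((x * g * x⁻¹) ^ i) v = 1 := by
  set w := ∏ i ∈ Finset.range n, τ (g ^ i) ((τ x⁻¹) v)
  have hw : w = 1 := by
    refine h w ?_
    have e1 : τ g w = ∏ i ∈ Finset.range n, τ (g ^ (i + 1)) ((τ x⁻¹) v) := by
      rw [map_prod]
      exact Finset.prod_congr rfl fun i _ => by rw [pow_succ', map_mul τ g, MulAut.mul_apply]
    have e2 := Finset.prod_range_succ' (fun i => τ (g ^ i) ((τ x⁻¹) v)) n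
    rw [Finset.prod_range_succ, hg, pow_zero] at e2
    rw [e1]
    exact (mul_right_cancel e2).symm
  calc ∏ i ∈ Finset.range n, τ ((x * g * x⁻¹) ^ i) v = ∏ i ∈ Finset.range n, τ x (τ (g ^ i) (τ x⁻¹ v)) :=
      Finset.prod_congr rfl fun i _ => by rw [conj_pow, map_mul, map_mul, MulAut.mul_apply, MulAut.mul_apply]
    _ = 1 := by rw [← map_prod]; show τ x w = 1; rw [hw, map_one]

variable {F : Type w} [Field F] [Fintype F] (hF : Fintype.card F = 2 ^ (2 * 3 + 1))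
include hF


theorem trivial_of_kills {V : Type v} [CommGroup V] (τ : ↥(Cfsg.Sz F 3) →* MulAut V) {x : ↥(Cfsg.Sz F 3)} (hx : x ≠ 1) (h : τ x = 1) :
    τ = 1 := by
  haveI := Suzuki.isSimple hF (by norm_num)
  rcases (inferInstance : τ.ker.Normal).eq_bot_or_eq_top with e | e
  · exact absurd ((Subgroup.eq_bot_iff_forall _).mp e x h) hx
  · exact MonoidHom.ker_eq_top_iff.mp e

/-- A Frobenius subgroup of order `4r` or `4·r`. -/
theorem exists_frob {r : ℕ} (hr : r = 29 ∨ r = 113) :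
    ∃ e g : ↥(Cfsg.Sz F 3), orderOf e = r ∧ orderOf g = 4 ∧ g ∈ Subgroup.normalizer (Subgroup.zpowers e : Set ↥(Cfsg.Sz F 3)) ∧
      ∀ i, 0 < i → i < 4 → ∀ x ∈ Subgroup.zpowers e, Commute (g ^ i) x → x = 1 := by
  classical
  obtain ⟨Ap, Am, cp, hAp, hcp, hnp, cm, hAm, hcm, hnm, -⟩ := Suzuki.classify hF (by norm_num)
  have hrp : r.Prime := by rcases hr with rfl | rfl <;> norm_num
  haveI := Fact.mk hrp
  haveI : Fact (Nat.Prime 2) := ⟨Nat.prime_two⟩
  obtain ⟨A, n, hAc, hAn, hrn, hcent, hnA, hodd⟩ : ∃ (A : Subgroup ↥(Cfsg.Sz F 3)) (n : ℕ), IsCyclic A ∧ Nat.card A = n ∧ r ∣ n ∧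
      (∀ u ∈ A, u ≠ 1 → Subgroup.centralizer ({u} : Set ↥(Cfsg.Sz F 3)) = A) ∧
      Nat.card (Subgroup.normalizer (A : Set ↥(Cfsg.Sz F 3))) = 4 * n ∧ ¬ 2 ∣ n := by
    rcases hr with rfl | rfl
    · exact ⟨Ap, 145, cp, by rw [hAp]; norm_num, by norm_num, hcp, by rw [hnp]; norm_num, by norm_num⟩
    · exact ⟨Am, 113, cm, by rw [hAm]; norm_num, by norm_num, hcm, by rw [hnm]; norm_num, by norm_num⟩
  obtain ⟨⟨e, heA⟩, he⟩ := exists_prime_orderOf_dvd_card' (G := A) r (hAn ▸ hrn)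
  rw [Subgroup.orderOf_mk] at he
  have he1 : e ≠ 1 := fun h => hrp.ne_one (by rw [← he, h, orderOf_one])
  set N := Subgroup.normalizer (A : Set ↥(Cfsg.Sz F 3))
  -- the group generated by `e` is normalised
  have hNe : ∀ g ∈ N, g ∈ Subgroup.normalizer (Subgroup.zpowers e : Set ↥(Cfsg.Sz F 3)) := by
    intro g hg
    haveI := hAc
    obtain ⟨⟨a, haA⟩, ha⟩ := IsCyclic.exists_generator (α := A)
    obtain ⟨i, hi⟩ := Subgroup.mem_zpowers_iff.mp (ha ⟨e, heA⟩)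
    obtain ⟨c, hc⟩ := Subgroup.mem_zpowers_iff.mp (ha ⟨_, (Subgroup.mem_normalizer_iff.mp hg a).mp haA⟩)
    have hi' : a ^ i = e := congrArg Subtype.val hi
    have hc' : a ^ c = g * a * g⁻¹ := congrArg Subtype.val hc
    have hge : g * e * g⁻¹ = e ^ c := by
      rw [← hi', ← conj_zpow, ← hc', ← zpow_mul, ← zpow_mul, mul_comm]
    have hgz : Subgroup.zpowers (g * e * g⁻¹) = Subgroup.zpowers e := by
      refine Subgroup.eq_of_le_of_card_ge (Subgroup.zpowers_le.mpr (hge ▸ ⟨c, rfl⟩)) (le_of_eq ?_)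
      rw [Nat.card_zpowers, Nat.card_zpowers]
      exact (MulEquiv.orderOf_eq (MulAut.conj g) e).symm
    rw [Subgroup.mem_normalizer_iff]
    intro x
    conv_rhs => rw [← hgz]
    constructor
    · rintro ⟨i, rfl⟩
      exact ⟨i, by simp [conj_zpow]⟩
    · rintro ⟨i, hi⟩
      refine ⟨i, ?_⟩
      simp only [conj_zpow] at hi
      exact mul_left_cancel (mul_right_cancel hi)
  -- a subgroup of order four
  obtain ⟨P, hP⟩ : ∃ P : Subgroup N, Nat.card P = 2 ^ 2 := Sylow.exists_subgroup_card_pow_prime 2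
    (by rw [hnA]; exact dvd_mul_right 4 n)
  have hcop : ∀ x : N, x ∈ P → (x : ↥(Cfsg.Sz F 3)) ∈ A → x = 1 := by
    intro x hx hxA
    have h1 : orderOf x ∣ 4 := by
      have := Subgroup.orderOf_dvd_natCard P hx
      rwa [hP] at this
    have h2 : orderOf x ∣ n := by
      rw [← Subgroup.orderOf_coe, ← hAn]
      exact Subgroup.orderOf_dvd_natCard A hxA
    refine orderOf_eq_one_iff.mp (Nat.eq_one_of_dvd_coprimes ?_ h1 h2)
    rw [show 4 = 2 ^ 2 from rfl]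
    exact Nat.Coprime.pow_left 2 ((Nat.prime_two).coprime_iff_not_dvd.mpr hodd)
  have hnocent : ∀ x : N, x ∈ P → x ≠ 1 → ∀ y ∈ Subgroup.zpowers e, Commute (x : ↥(Cfsg.Sz F 3)) y → y = 1 := by
    intro x hx hx1 y hy hc
    by_contra hy1
    refine hx1 (hcop x hx ?_)
    rw [← hcent y (Subgroup.zpowers_le.mpr heA hy) hy1]
    exact Subgroup.mem_centralizer_singleton_iff.mpr hc.eq
  obtain ⟨g, hgP, hg4⟩ : ∃ g : N, g ∈ P ∧ g * g ≠ 1 := by
    by_contra hn
    push Not at hn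
    obtain ⟨a, ha, ha1⟩ : ∃ a ∈ P, a ≠ 1 := by
      by_contra hh
      push Not at hh
      rw [(Subgroup.eq_bot_iff_forall _).mpr hh, Subgroup.card_bot] at hP
      norm_num at hP
    obtain ⟨b, hb, hbn⟩ : ∃ b ∈ P, b ∉ Subgroup.zpowers a := by
      by_contra hh
      push Not at hh
      have h1 := Subgroup.card_le_of_le (show P ≤ Subgroup.zpowers a from hh)
      rw [hP, Nat.card_zpowers] at h1
      have h2 : orderOf a ≤ 2 :=
        Nat.le_of_dvd two_pos (orderOf_dvd_of_pow_eq_one (by rw [pow_two]; exact hn a ha))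
      omega
    -- each involution inverts `e`
    have hinv : ∀ x : N, x ∈ P → x ≠ 1 → (x : ↥(Cfsg.Sz F 3)) * e * (x : ↥(Cfsg.Sz F 3))⁻¹ = e⁻¹ := by
      intro x hx hx1
      have hxx : (x : ↥(Cfsg.Sz F 3)) * x = 1 := congrArg Subtype.val (hn x hx)
      have hm : (x : ↥(Cfsg.Sz F 3)) * e * (x : ↥(Cfsg.Sz F 3))⁻¹ ∈ Subgroup.zpowers e :=
        (Subgroup.mem_normalizer_iff.mp (hNe x x.2) e).mp (Subgroup.mem_zpowers e)
      set y := e * ((x : ↥(Cfsg.Sz F 3)) * e * (x : ↥(Cfsg.Sz F 3))⁻¹) with hy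
      have hy' : y = 1 := by
        refine hnocent x hx hx1 y (mul_mem (Subgroup.mem_zpowers e) hm) (mul_inv_eq_iff_eq_mul.mp ?_)
        obtain ⟨i, hi⟩ := Subgroup.mem_zpowers_iff.mp hm
        have e2 : (x : ↥(Cfsg.Sz F 3)) * y * (x : ↥(Cfsg.Sz F 3))⁻¹ =
            ((x : ↥(Cfsg.Sz F 3)) * e * (x : ↥(Cfsg.Sz F 3))⁻¹) * (((x : ↥(Cfsg.Sz F 3)) * x) * e * ((x : ↥(Cfsg.Sz F 3)) * x)⁻¹) := by rw [hy]; group
        rw [e2, hxx, one_mul, inv_one, mul_one, hy, ← hi]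
        exact ((Commute.refl e).zpow_left i).eq
      exact (inv_eq_of_mul_eq_one_right hy').symm
    have hb1 : b ≠ 1 := fun h => hbn (h ▸ one_mem _)
    have hab : a * b ≠ 1 := fun h => hbn (by rw [eq_inv_of_mul_eq_one_right h]; exact inv_mem (Subgroup.mem_zpowers a))
    refine he1 (hnocent (a * b) (mul_mem ha hb) hab e (Subgroup.mem_zpowers e) (mul_inv_eq_iff_eq_mul.mp ?_))
    calc ((a * b : N) : ↥(Cfsg.Sz F 3)) * e * ((a * b : N) : ↥(Cfsg.Sz F 3))⁻¹ = (a : ↥(Cfsg.Sz F 3)) * ((b : ↥(Cfsg.Sz F 3)) * e * (b : ↥(Cfsg.Sz F 3))⁻¹) * (a : ↥(Cfsg.Sz F 3))⁻¹ := by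
          push_cast; group
      _ = ((a : ↥(Cfsg.Sz F 3)) * e * (a : ↥(Cfsg.Sz F 3))⁻¹)⁻¹ := by rw [hinv b hb hb1]; group
      _ = e := by rw [hinv a ha (fun h => ha1 h), inv_inv]
  have hgo : orderOf g = 4 := by
    have h4 : g ^ 4 = 1 := by
      have := Subgroup.orderOf_dvd_natCard P hgP
      rw [hP] at this
      exact orderOf_dvd_iff_pow_eq_one.mp this
    exact orderOf_eq_prime_pow (p := 2) (n := 1) (by rw [pow_one, pow_two]; exact hg4) h4
  refine ⟨e, g, he, by rw [Subgroup.orderOf_coe, hgo], hNe g g.2, fun i hi hi4 x hx hc => ?_⟩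
  refine hnocent (g ^ i) (pow_mem hgP i) (fun h => ?_) x hx (by simpa using hc)
  have := Nat.le_of_dvd hi (orderOf_dvd_of_pow_eq_one h)
  omega

/-- The torus acts fixed-point-freely on the centre of the unipotent group. -/
theorem exists_frob_torus :
    ∃ g : ↥(Cfsg.Sz F 3), orderOf g = 127 ∧ g ∈ Subgroup.normalizer (Suzuki.Z hF : Set ↥(Cfsg.Sz F 3)) ∧
      ∀ i, 0 < i → i < 127 → ∀ x ∈ Suzuki.Z hF, Commute (g ^ i) x → x = 1 := by
  haveI : Fact (Nat.Prime 127) := ⟨by norm_num⟩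
  obtain ⟨⟨g, hgT⟩, hg⟩ := exists_prime_orderOf_dvd_card' (G := Suzuki.T hF) 127
    (by rw [Suzuki.card_T]; norm_num)
  rw [Subgroup.orderOf_mk] at hg
  obtain ⟨t, rfl⟩ := (Suzuki.mem_T hF).mp hgT
  refine ⟨_, hg, ?_, ?_⟩
  · rw [Subgroup.mem_normalizer_iff]
    have hto : ∀ (t : Fˣ) (x : ↥(Cfsg.Sz F 3)), x ∈ Suzuki.Z hF → Suzuki.dS hF t * x * (Suzuki.dS hF t)⁻¹ ∈ Suzuki.Z hF := by
      intro t x hx
      obtain ⟨b, rfl⟩ := (Suzuki.mem_Z hF).mp hx
      rw [Suzuki.dS_uS, mul_zero]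
      exact (Suzuki.mem_Z hF).mpr ⟨_, rfl⟩
    intro x
    refine ⟨hto t x, fun h => ?_⟩
    have := hto t⁻¹ _ h
    rw [← Suzuki.dS_inv hF] at this
    simpa [mul_assoc] using this
  · intro i hi hi127 x hx hc
    obtain ⟨b, rfl⟩ := (Suzuki.mem_Z hF).mp hx
    by_contra hx1
    have hmem : Suzuki.dS hF t ^ i ∈ Subgroup.centralizer ({Suzuki.uS hF 0 b} : Set ↥(Cfsg.Sz F 3)) :=
      Subgroup.mem_centralizer_singleton_iff.mpr hc.eq
    have hU := Suzuki.centralizer_unipotent hF (by norm_num) ((Suzuki.mem_U hF).mpr ⟨0, b, rfl⟩) hx1 hmem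
    have h1 : orderOf (Suzuki.dS hF t ^ i) ∣ (2 ^ 7) ^ 2 := by
      have := Subgroup.orderOf_dvd_natCard _ hU
      rwa [Suzuki.card_U] at this
    have h2 : orderOf (Suzuki.dS hF t ^ i) ∣ 127 := by
      rw [← hg]
      exact orderOf_pow_dvd i
    have h3 := Nat.eq_one_of_dvd_coprimes (by norm_num) h1 h2
    have := Nat.le_of_dvd hi (hg ▸ orderOf_dvd_of_pow_eq_one (orderOf_eq_one_iff.mp h3))
    omega

theorem card_Z : Nat.card (Suzuki.Z hF) = 2 ^ 7 := by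
  rw [Suzuki.card_Z]

end CfsgLib.SzSq
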