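import Cfsg.Agent.Lib.SzSquare.Tools
import Cfsg.Agent.Lib.SzSquare.Norm
import Cfsg.Agent.S3633

/-!
Groups with `Sz(128)` as a quotient: subgroups covering the quotient, centralisers, thin primes.
-/

set_option autoImplicit false
set_option linter.unusedSectionVars false

namespace CfsgLib.SzSq

open Subgroup

universe u v w

variable {G : Type u} [Group G] [Finite G]

/-- A prime with a thin Sylow subgroup and soluble centraliser is impossible. -/
theorem thin_false (hG : Spec G) {r : ℕ} (hr : r ∈ R4) (hthin : ¬ Fat r (⊤ : Subgroup G))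
    (hsol : ∀ x : G, orderOf x = r → Group.IsSolvable (Subgroup.centralizer ({x} : Set G))) : False := by
  classical
  have hrp := ar_R4.prime r hr
  haveI := Fact.mk hrp
  have hB : Bounded G := hG.dvd
  -- all subgroups of order `r` are conjugate
  have hconj : ∀ x y : G, orderOf x = r → orderOf y = r →
      ∃ g : G, x ∈ Subgroup.zpowers (g * y * g⁻¹) := by
    intro x y hx hy
    have hP : IsPGroup r (Subgroup.zpowers x) := IsPGroup.of_card (n := 1) (by rw [Nat.card_zpowers, hx, pow_one])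
    have hQ : IsPGroup r (Subgroup.zpowers y) := IsPGroup.of_card (n := 1) (by rw [Nat.card_zpowers, hy, pow_one])
    obtain ⟨P, hPx⟩ := hP.exists_le_sylow
    obtain ⟨P', hPy⟩ := hQ.exists_le_sylow
    obtain ⟨g, hg⟩ := MulAction.exists_smul_eq G P' P
    refine ⟨g, ?_⟩
    have hy' : g * y * g⁻¹ ∈ (P : Subgroup G) := by
      rw [← hg]
      exact Subgroup.smul_mem_pointwise_smul y (MulAut.conj g) _ (hPy (Subgroup.mem_zpowers y))
    have hyo : orderOf (g * y * g⁻¹) = r := by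
      rw [← hy]; exact MulEquiv.orderOf_eq (MulAut.conj g) y
    have hP1 : (P : Subgroup G) ≠ ⊥ := fun e => hrp.ne_one (by
      rw [← hx, (Subgroup.eq_bot_iff_forall _).mp e x (hPx (Subgroup.mem_zpowers x)), orderOf_one])
    obtain ⟨z, hz, hzo, hzc⟩ := exists_central hrp P.2 hP1
    have key : ∀ u ∈ (P : Subgroup G), orderOf u = r → Subgroup.zpowers u = Subgroup.zpowers z := by
      intro u hu huo
      refine Subgroup.eq_of_le_of_card_ge (Subgroup.zpowers_le.mpr ?_) (by rw [Nat.card_zpowers, Nat.card_zpowers, hzo, huo])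
      by_contra hn
      exact hthin (fat_of_commute hrp hzo huo (hzc u hu) hn (Subgroup.mem_top z) (Subgroup.mem_top u))
    rw [key _ hy' hyo, ← key x (hPx (Subgroup.mem_zpowers x)) hx]
    exact Subgroup.mem_zpowers x
  obtain ⟨x, hx⟩ : ∃ x : G, orderOf x = r := by
    obtain ⟨q, hq, hqr⟩ : ∃ q ∈ R4, r ≠ q := by
      by_cases h : r = 2
      · exact ⟨29, by decide, by rw [h]; norm_num⟩
      · exact ⟨2, by decide, h⟩
    obtain ⟨g, hg⟩ := hG.pairs r hr q hq hqr
    exact ⟨g ^ q, by rw [orderOf_pow, hg, Nat.gcd_eq_right (dvd_mul_left q r),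
      Nat.mul_div_cancel _ (ar_R4.prime q hq).pos]⟩
  set C := Subgroup.centralizer ({x} : Set G) with hC
  haveI := hsol x hx
  have hdvd : ∀ q ∈ R4.erase r, q ∣ Nat.card C := by
    intro q hq
    obtain ⟨hqr, hq⟩ := Finset.mem_erase.mp hq
    obtain ⟨h, hh⟩ := hG.pairs r hr q hq (Ne.symm hqr)
    have hy : orderOf (h ^ q) = r := by
      rw [orderOf_pow, hh, Nat.gcd_eq_right (dvd_mul_left q r), Nat.mul_div_cancel _ (ar_R4.prime q hq).pos]
    have ht : orderOf (h ^ r) = q := by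
      rw [orderOf_pow, hh, Nat.gcd_eq_right (dvd_mul_right r q), Nat.mul_div_cancel_left _ hrp.pos]
    obtain ⟨g, hg⟩ := hconj x _ hx hy
    obtain ⟨i, hi⟩ := Subgroup.mem_zpowers_iff.mp hg
    have hmem : g * h ^ r * g⁻¹ ∈ C := by
      rw [hC, Subgroup.mem_centralizer_singleton_iff, ← hi]
      exact ((((Commute.refl h).pow_pow r q).map (MulAut.conj g).toMonoidHom).zpow_right i).eq
    have := Subgroup.orderOf_dvd_natCard C hmem
    rwa [show orderOf (g * h ^ r * g⁻¹) = q from (MulEquiv.orderOf_eq (MulAut.conj g) _).trans ht] at this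
  have hno : ∀ p ∈ R4.erase r, ∀ q ∈ R4.erase r, p ≠ q → ∀ c : C, orderOf c ≠ p * q := by
    intro p hp q hq hpq c hc
    obtain ⟨hpr, hp⟩ := Finset.mem_erase.mp hp
    obtain ⟨hqr, hq⟩ := Finset.mem_erase.mp hq
    rw [← Subgroup.orderOf_coe] at hc
    have h1 : orderOf ((c : G) ^ q) = p := by
      rw [orderOf_pow, hc, Nat.gcd_eq_right (dvd_mul_left q p), Nat.mul_div_cancel _ (ar_R4.prime q hq).pos]
    have h2 : orderOf ((c : G) ^ p) = q := by
      rw [orderOf_pow, hc, Nat.gcd_eq_right (dvd_mul_right p q), Nat.mul_div_cancel_left _ (ar_R4.prime p hp).pos]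
    have h3 : Commute (c : G) x := Subgroup.mem_centralizer_singleton_iff.mp c.2
    exact hB.hyp.triple ar_R4 h1 h2 hx hp hq hr hpq hpr hqr ((Commute.refl (c : G)).pow_pow q p) (h3.pow_left q)
      (h3.pow_left p)
  obtain ⟨p, q, t, hpq, hpt, hqt, he⟩ := Finset.card_eq_three.mp
    (show (R4.erase r).card = 3 by rw [Finset.card_erase_of_mem hr, ar_R4.card])
  have hp : p ∈ R4.erase r := by rw [he]; simp
  have hq : q ∈ R4.erase r := by rw [he]; simp
  have ht : t ∈ R4.erase r := by rw [he]; simp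
  exact Cfsg.Agent.S3633.no_coclique (ar_R4.prime p (Finset.mem_of_mem_erase hp))
    (ar_R4.prime q (Finset.mem_of_mem_erase hq)) (ar_R4.prime t (Finset.mem_of_mem_erase ht)) hpq hpt hqt
    (hdvd p hp) (hdvd q hq) (hdvd t ht) (hno p hp q hq hpq) (hno p hp t ht hpt) (hno q hq t ht hqt)

theorem fat_of_sq_dvd (hB : Bounded G) {t : ℕ} (ht : t ∈ R4) (ht2 : t ≠ 2) {Y : Subgroup G}
    (h : t ^ 2 ∣ Nat.card Y) : Fat t Y := by
  haveI := Fact.mk (ar_R4.prime t ht)
  obtain ⟨P, hP⟩ := Sylow.exists_subgroup_card_pow_prime (G := Y) t h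
  by_contra hn
  set P' := P.map Y.subtype
  have hc : Nat.card P' = t ^ 2 := by rw [Subgroup.card_map_of_injective Y.subtype_injective, hP]
  have hPp : IsPGroup t P' := IsPGroup.of_card hc
  have hP1 : P' ≠ ⊥ := fun e => by
    rw [e, Subgroup.card_bot] at hc
    have : 1 < t ^ 2 := Nat.one_lt_pow two_ne_zero (ar_R4.prime t ht).one_lt
    omega
  have h1 := thin_card (ar_R4.prime t ht) (hB.hyp.pow_eq_one ar_R4 ht ht2 hPp)
    (fun hf => hn (hf.mono (Subgroup.map_subtype_le _))) hP1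
  rw [hc] at h1
  have := (ar_R4.prime t ht).one_lt
  rw [pow_two] at h1
  nlinarith

variable {F : Type w} [Field F] [Fintype F] (hF : Fintype.card F = 2 ^ (2 * 3 + 1))
include hF

/-- The centraliser of an element of odd order of `Sz(128)` is abelian. -/
theorem cent_comm {z : ↥(Cfsg.Sz F 3)} (hz : z ≠ 1) (hodd : ¬ 2 ∣ orderOf z) :
    ∀ a ∈ Subgroup.centralizer ({z} : Set ↥(Cfsg.Sz F 3)),
      ∀ b ∈ Subgroup.centralizer ({z} : Set ↥(Cfsg.Sz F 3)), Commute a b := by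
  obtain ⟨Ap, Am, cp, -, hcp, -, cm, -, hcm, -, hall⟩ := Suzuki.classify hF (by norm_num)
  have hU : z ∉ Suzuki.conjSet (Suzuki.U hF) := by
    intro h
    have h' := Suzuki.orderOf_dvd_of_conjSet _ h
    rw [Suzuki.card_U, ← pow_mul] at h'
    obtain ⟨k, -, hk⟩ := (Nat.dvd_prime_pow Nat.prime_two).mp h'
    rcases k with _ | k
    · exact hz (orderOf_eq_one_iff.mp (by rw [hk, pow_zero]))
    · exact hodd (hk ▸ dvd_pow_self 2 (Nat.succ_ne_zero k))
  haveI := Suzuki.isCyclic_T hF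
  have hT : ∀ u ∈ Suzuki.T hF, u ≠ 1 → Subgroup.centralizer ({u} : Set ↥(Cfsg.Sz F 3)) = Suzuki.T hF := by
    intro u hu hu1
    obtain ⟨t, rfl⟩ := (Suzuki.mem_T hF).mp hu
    exact Suzuki.centralizer_torus hF (by norm_num) fun e => hu1 (by rw [e, Suzuki.dS_one])
  obtain ⟨A, hA, hcA, hzA⟩ : ∃ A : Subgroup ↥(Cfsg.Sz F 3), IsCyclic A ∧
      (∀ u ∈ A, u ≠ 1 → Subgroup.centralizer ({u} : Set ↥(Cfsg.Sz F 3)) = A) ∧ z ∈ Suzuki.conjSet A := by
    rcases hall z hz with h | h | h | h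
    · exact absurd h hU
    · exact ⟨_, inferInstance, hT, h⟩
    · exact ⟨_, cp, hcp, h⟩
    · exact ⟨_, cm, hcm, h⟩
  obtain ⟨-, k, hk⟩ := hzA
  intro a ha b hb
  have hk1 : k⁻¹ * z * k ≠ 1 := fun e => hz (by
    calc z = k * (k⁻¹ * z * k) * k⁻¹ := by group
      _ = 1 := by rw [e]; group)
  have hmem : ∀ c ∈ Subgroup.centralizer ({z} : Set ↥(Cfsg.Sz F 3)), k⁻¹ * c * k ∈ A := by
    intro c hc
    rw [← hcA _ hk hk1, Subgroup.mem_centralizer_singleton_iff]
    calc k⁻¹ * c * k * (k⁻¹ * z * k) = k⁻¹ * (c * z) * k := by group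
      _ = k⁻¹ * z * k * (k⁻¹ * c * k) := by rw [Subgroup.mem_centralizer_singleton_iff.mp hc]; group
  haveI := hA
  letI : CommGroup A := IsCyclic.commGroup
  have h := congrArg (fun x : A => k * (x : ↥(Cfsg.Sz F 3)) * k⁻¹)
    (mul_comm (⟨_, hmem a ha⟩ : A) ⟨_, hmem b hb⟩)
  show a * b = b * a
  simpa [mul_assoc] using h

variable (π : G →* ↥(Cfsg.Sz F 3))

theorem cent_solvable (hK : Group.IsSolvable π.ker) {x : G} (hx : π x ≠ 1) (hodd : ¬ 2 ∣ orderOf x) :
    Group.IsSolvable (Subgroup.centralizer ({x} : Set G)) := by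
  set C := Subgroup.centralizer ({x} : Set G)
  set f : C →* ↥(Cfsg.Sz F 3) := π.comp C.subtype
  haveI := hK
  refine Group.isSolvable_of_ker_le_range (G'' := f.range) (f := (Subgroup.inclusion (show π.ker ⊓ C ≤ C from inf_le_right)))
    (g := f.rangeRestrict) ?_ (hG' := Group.isSolvable_of_isSolvable_injective
      (f := Subgroup.inclusion (show π.ker ⊓ C ≤ π.ker from inf_le_left)) (Subgroup.inclusion_injective _))
    (hG'' := ?_)
  · intro c hc
    rw [MonoidHom.ker_rangeRestrict] at hc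
    exact ⟨⟨(c : G), MonoidHom.mem_ker.mpr (MonoidHom.mem_ker.mp hc), c.2⟩, Subtype.ext rfl⟩
  · refine Group.isSolvable_of_comm ?_
    rintro ⟨_, a, rfl⟩ ⟨_, b, rfl⟩
    have hm : ∀ c : C, π (c : G) ∈ Subgroup.centralizer ({π x} : Set ↥(Cfsg.Sz F 3)) := fun c => by
      rw [Subgroup.mem_centralizer_singleton_iff, ← map_mul, ← map_mul, Subgroup.mem_centralizer_singleton_iff.mp c.2]
    exact Subtype.ext (cent_comm hF hx (fun h => hodd (h.trans (orderOf_map_dvd π x))) _ (hm a) _ (hm b)).eq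

/-- A subgroup covering the Sylow two-subgroup has rank two. -/
theorem fat_two_of_onto (hB : Bounded G) {Y : Subgroup G} (hY : Suzuki.U hF ≤ Y.map π) : Fat 2 Y := by
  haveI : Fact (Nat.Prime 2) := ⟨Nat.prime_two⟩
  set Y' := Y ⊓ (Suzuki.U hF).comap π
  set f : Y' →* Suzuki.U hF := (π.comp Y'.subtype).codRestrict _ (fun y => y.2.2) with hf
  have hsurj : Function.Surjective f := by
    rintro ⟨u, hu⟩
    obtain ⟨y, hy, rfl⟩ := hY hu
    exact ⟨⟨y, hy, hu⟩, Subtype.ext rfl⟩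
  obtain ⟨P⟩ : Nonempty (Sylow 2 Y') := inferInstance
  have htop : (P : Subgroup Y').map f = ⊤ := by
    have h1 := P.mapSurjective hsurj
    have h2 : ((P.mapSurjective hsurj : Sylow 2 (Suzuki.U hF)) : Subgroup (Suzuki.U hF)) = ⊤ :=
      ((P.mapSurjective hsurj).3 (Q := ⊤) ((Suzuki.U_isPGroup hF).to_subgroup ⊤) le_top).symm
    rwa [Sylow.coe_mapSurjective] at h2
  set P' := (P : Subgroup Y').map Y'.subtype
  have hPp : IsPGroup 2 P' := P.2.map _
  have hlift : ∀ u ∈ Suzuki.U hF, ∃ p ∈ P', π p = u := by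
    intro u hu
    obtain ⟨p, hp, e⟩ := (htop.symm ▸ Subgroup.mem_top (⟨u, hu⟩ : Suzuki.U hF) :
      (⟨u, hu⟩ : Suzuki.U hF) ∈ (P : Subgroup Y').map f)
    exact ⟨p, ⟨p, hp, rfl⟩, congrArg Subtype.val e⟩
  have hP'Y : P' ≤ Y := (Subgroup.map_subtype_le _).trans inf_le_left
  haveI := Suzuki.charTwo hF
  obtain ⟨t, t0, t1⟩ := Suzuki.exists_not_zero_one hF (by norm_num)
  have hsq : ∀ a : F, Suzuki.uS hF a 0 * Suzuki.uS hF a 0 = Suzuki.uS hF 0 (Suzuki.th 3 a * a) := fun a => by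
    rw [Suzuki.uS_mul, CharTwo.add_self_eq_zero, zero_add, zero_add]
  have hinv : ∀ a : F, a ≠ 0 → ∃ i ∈ P', orderOf i = 2 ∧ π i = Suzuki.uS hF 0 (Suzuki.th 3 a * a) := by
    intro a ha
    obtain ⟨p, hp, hπ⟩ := hlift (Suzuki.uS hF a 0) ((Suzuki.mem_U hF).mpr ⟨a, 0, rfl⟩)
    refine ⟨p * p, mul_mem hp hp, ?_, by rw [map_mul, hπ, hsq]⟩
    refine orderOf_eq_prime ?_ ?_
    · have := hB.hyp.pow_four hPp p hp
      rw [pow_two, ← this, pow_add p 2 2, pow_two]
    · intro h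
      have h2 : Suzuki.uS hF a 0 * Suzuki.uS hF a 0 = 1 := by rw [← hπ, ← map_mul, h, map_one]
      rw [hsq, ← Suzuki.uS_zero hF] at h2
      rcases mul_eq_zero.mp (Suzuki.uS_inj hF h2).2 with h3 | h3
      · exact ha ((Suzuki.th_eq_zero_iff).mp h3)
      · exact ha h3
  obtain ⟨i, hi, hio, hπi⟩ := hinv 1 one_ne_zero
  obtain ⟨j, hj, hjo, hπj⟩ := hinv t t0
  have hij : i ≠ j := by
    intro e
    rw [e, hπj] at hπi
    have h := (Suzuki.uS_inj hF hπi).2
    rw [mul_one, show Suzuki.th 3 (1 : F) = 1 by simp [Suzuki.th]] at h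
    exact t1 (Suzuki.eq_one_of_th_mul hF (by exact h))
  have hP1 : P' ≠ ⊥ := fun e => by
    rw [(Subgroup.eq_bot_iff_forall _).mp e i hi, orderOf_one] at hio
    norm_num at hio
  obtain ⟨z, hz, hzo, hzc⟩ := exists_central Nat.prime_two hPp hP1
  have hz1 : ∀ x : G, x ∈ Subgroup.zpowers z → orderOf x = 2 → x = z := by
    intro x hx hxo
    obtain ⟨k, rfl⟩ := Subgroup.mem_zpowers_iff.mp hx
    have hzz : z * z = 1 := by rw [← pow_two, ← hzo, pow_orderOf_eq_one]
    rcases Int.even_or_odd' k with ⟨l, rfl | rfl⟩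
    · rw [zpow_mul, zpow_ofNat, pow_two, hzz, one_zpow, orderOf_one] at hxo; norm_num at hxo
    · rw [zpow_add, zpow_mul, zpow_ofNat, pow_two, hzz, one_zpow, one_mul, zpow_one]
  by_cases hiz : i ∈ Subgroup.zpowers z
  · refine fat_of_commute Nat.prime_two hzo hjo (hzc j hj) ?_ (hP'Y hz) (hP'Y hj)
    exact fun hjz => hij ((hz1 i hiz hio).trans (hz1 j hjz hjo).symm)
  · exact fat_of_commute Nat.prime_two hzo hio (hzc i hi) hiz (hP'Y hz) (hP'Y hi)

end CfsgLib.SzSq
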