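import Cfsg.Agent.Lib.SzSquare.CaseOne
import Cfsg.Agent.Lib.SzSquare.CaseTwo

/-!
No soluble group of the four classes with rank two for each prime.
-/

set_option autoImplicit false
set_option linter.unusedSectionVars false

namespace CfsgLib.SzSq

open Subgroup

universe u

variable {G : Type u} [Group G] [Finite G]

theorem Faith.false' {R : Finset ℕ} {V L : Subgroup G} {s : ℕ} (h : Faith R V L s) : False := by
  classical
  have hcard : ((R.erase s).erase 2).card ≥ 2 := by
    have h1 := Finset.card_erase_of_mem h.mem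
    have h2 := Finset.pred_card_le_card_erase (s := R.erase s) (a := 2)
    rw [h.ar.card] at h1
    omega
  obtain ⟨q, hq, r, hr, hqr⟩ := Finset.one_lt_card.mp (show 1 < ((R.erase s).erase 2).card by omega)
  simp only [Finset.mem_erase] at hq hr
  by_cases hex : ∃ p ∈ R, p ≠ s ∧ Fat p (core p L)
  · obtain ⟨p, hp, hps, hfat⟩ := hex
    rcases eq_or_ne p 2 with rfl | hp2
    · exact h.two_false hps hq.2.2 hq.2.1 hq.1 hr.2.2 hr.2.1 hr.1 hqr hfat
    rcases eq_or_ne 2 s with h2s | h2s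
    · -- all three are odd
      obtain ⟨t, ht, hts, htp⟩ : ∃ t ∈ R, t ≠ s ∧ t ≠ p := by
        rcases eq_or_ne q p with hqp | hqp
        · exact ⟨r, hr.2.2, hr.2.1, fun e => hqr (hqp.trans e.symm)⟩
        · exact ⟨q, hq.2.2, hq.2.1, hqp⟩
      obtain ⟨u, hu, hus, hup, hut⟩ : ∃ u ∈ R, u ≠ s ∧ u ≠ p ∧ u ≠ t := by
        by_contra hn
        push Not at hn
        have : R ⊆ {s, p, t} := fun u hu => by
          simp only [Finset.mem_insert, Finset.mem_singleton]
          by_cases e1 : u = s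
          · exact Or.inl e1
          by_cases e2 : u = p
          · exact Or.inr (Or.inl e2)
          exact Or.inr (Or.inr (hn u hu e1 e2))
        have := Finset.card_le_card this
        have := (Finset.card_le_three (a := s) (b := p) (c := t))
        rw [h.ar.card] at *
        omega
      have ht2 : t ≠ 2 := fun e => hts (e.trans h2s)
      have hu2 : u ≠ 2 := fun e => hus (e.trans h2s)
      obtain ⟨a, haL, ha, hac⟩ := h.exists_centraliser hp hps ht hts htp ht2 hfat
      obtain ⟨b, hbL, hb, hbc⟩ := h.exists_centraliser hp hps hu hus hup hu2 hfat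
      obtain ⟨w, hw, hwo⟩ := core_ne_bot_commute (h.ar.prime p hp) (core_pgroup p L) hfat
      exact h.hyp.triple h.ar ha hb hwo ht hu hp hut.symm htp hup
        (core_commute (h.ar.prime t ht) (h.ar.prime u hu) hut.symm L (h.mem_core hp hps ht ht2 hfat haL ha hac)
          (h.mem_core hp hps hu hu2 hfat hbL hb hbc))
        (Subgroup.mem_centralizer_iff.mp hac w hw).symm (Subgroup.mem_centralizer_iff.mp hbc w hw).symm
    rcases eq_or_ne q p with rfl | hqp
    · exact h.odd_false h2s hp hps hp2 hr.2.2 hr.2.1 hr.1 hqr hfat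
    · exact h.odd_false h2s hp hps hp2 hq.2.2 hq.2.1 hq.1 hqp.symm hfat
  push Not at hex
  exact h.thin_false hq.2.2 hq.2.1 hq.1 hex

/-- No soluble group of the four classes has rank two for all of them. -/
theorem no_solvable {R : Finset ℕ} (hR : Ar R) (hG : Hyp R G) [Group.IsSolvable G]
    (hprimes : ∀ t : ℕ, t.Prime → t ∣ Nat.card G → t ∈ R) (hfat : ∀ t ∈ R, Fat t (⊤ : Subgroup G)) : False := by
  classical
  haveI : Nontrivial G := by
    obtain ⟨A, -, -, hc⟩ := hfat 2 hR.two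
    haveI : Nontrivial A := Finite.one_lt_card_iff_nontrivial.mp (by rw [hc]; norm_num)
    exact A.subtype_injective.nontrivial
  obtain ⟨V, hVn, -, hV0, hVmin⟩ := CfsgLib.exists_minimal_normal (G := G) (N := ⊤) top_ne_bot
  haveI := hVn
  obtain ⟨hVc, s, hsp, hVe⟩ := CfsgLib.minimal_normal_elementary hV0 inferInstance hVmin
  have hs : s ∈ R := by
    obtain ⟨⟨v, hv⟩, hv1⟩ := Subgroup.ne_bot_iff_exists_ne_one.mp hV0
    refine hprimes s hsp ?_
    haveI := Fact.mk hsp
    rw [← orderOf_eq_prime (hVe v hv) (fun e => hv1 (Subtype.ext e))]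
    exact orderOf_dvd_natCard v
  have hV : Cfsg.IsElementaryAbelian s V := ⟨hVc, hVe⟩
  have htop : Group.IsSolvable (⊤ : Subgroup G) := inferInstance
  obtain ⟨L, hL⟩ := CfsgLib.exists_isPiHallOf {t | t ∈ R ∧ t ≠ s} htop
  have hLs : Group.IsSolvable L := inferInstance
  have hLfat : ∀ t ∈ R, t ≠ s → Fat t L := fun t ht hts =>
    fat_hall (hR.prime t ht) (π := {t | t ∈ R ∧ t ≠ s}) ⟨ht, hts⟩ htop hL (hfat t ht)
  by_cases hfaith : ∀ x ∈ L, x ∈ Subgroup.centralizer (V : Set G) → x = 1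
  · exact Faith.false' ⟨hR, hG, hs, hV, hV0, hVn, hLs, hfaith, fun t ht hd => hL.2.1 t ht hd, hLfat⟩
  push Not at hfaith
  obtain ⟨x, hxL, hxC, hx1⟩ := hfaith
  set D := (Subgroup.centralizer (V : Set G)).subgroupOf L
  haveI : (Subgroup.centralizer (V : Set G)).Normal := Subgroup.normal_centralizer
  haveI : D.Normal := inferInstanceAs ((Subgroup.centralizer (V : Set G)).subgroupOf L).Normal
  have hD0 : D ≠ ⊥ := fun e => hx1 (congrArg Subtype.val ((Subgroup.eq_bot_iff_forall _).mp e ⟨x, hxL⟩ hxC))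
  obtain ⟨P₀, hPn, hPD, hP0, hPmin⟩ := CfsgLib.exists_minimal_normal (G := L) (N := D) hD0
  haveI := hPn
  obtain ⟨hPc, p, hpp, hPe⟩ := CfsgLib.minimal_normal_elementary hP0 inferInstance hPmin
  set P := P₀.map L.subtype
  have hP0' : P ≠ ⊥ := fun e => hP0 ((Subgroup.map_eq_bot_iff_of_injective _ L.subtype_injective).mp e)
  have hPe' : Cfsg.IsElementaryAbelian p P := by
    haveI := hPc
    refine ⟨inferInstance, ?_⟩
    rintro _ ⟨y, hy, rfl⟩
    rw [← map_pow, hPe y hy, map_one]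
  obtain ⟨hp, hps⟩ : p ∈ R ∧ p ≠ s := by
    obtain ⟨⟨y, hy⟩, hy1⟩ := Subgroup.ne_bot_iff_exists_ne_one.mp hP0
    refine hL.2.1 p hpp ?_
    haveI := Fact.mk hpp
    rw [← orderOf_eq_prime (hPe y hy) (fun e => hy1 (Subtype.ext e))]
    exact orderOf_dvd_natCard y
  have hPV : ∀ v ∈ V, ∀ w ∈ P, Commute v w := by
    rintro v hv _ ⟨y, hy, rfl⟩
    exact Subgroup.mem_centralizer_iff.mp (hPD hy) v hv
  have hLP : L ≤ Subgroup.normalizer (P : Set G) := by
    have h := Subgroup.le_normalizer_map (H := P₀) L.subtype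
    rw [Subgroup.normalizer_eq_top, ← MonoidHom.range_eq_map, Subgroup.range_subtype] at h
    exact h
  have hcard : ((R.erase s).erase p).card = 2 := by
    rw [Finset.card_erase_of_mem (Finset.mem_erase.mpr ⟨hps, hp⟩), Finset.card_erase_of_mem hs, hR.card]
  obtain ⟨q, r, hqr, hqr'⟩ := Finset.card_eq_two.mp hcard
  have hq : q ∈ (R.erase s).erase p := by rw [hqr']; simp
  have hr : r ∈ (R.erase s).erase p := by rw [hqr']; simp
  simp only [Finset.mem_erase] at hq hr
  obtain ⟨K, hK⟩ := CfsgLib.exists_isPiHallOf {q, r} hLs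
  refine Pair.false' (R := R) (V := V) (P := P) (K := K) (s := s) (p := p) (q := q) (r := r)
    ⟨hR, hG, ⟨hs, hp, hq.2.2, hr.2.2⟩, ⟨hps.symm, hq.2.1.symm, hr.2.1.symm, hq.1.symm, hr.1.symm, hqr⟩, hV, hPe', hPV,
      hV0, hP0', hVn, hK.1.trans hLP, inferInstance, fat_hall (hR.prime q hq.2.2) (Or.inl rfl) hLs hK
        (hLfat q hq.2.2 hq.2.1), fat_hall (hR.prime r hr.2.2) (Or.inr rfl) hLs hK (hLfat r hr.2.2 hr.2.1),
      fun t ht hd => hK.2.1 t ht hd⟩

end CfsgLib.SzSq
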