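import Cfsg.Agent.Lib.SzSquare.Basics

/-!
Groups of rank one with small exponent are centralised by elements of large prime order.
-/

set_option autoImplicit false
set_option linter.unusedSectionVars false

namespace CfsgLib.SzSq

open Subgroup

universe u

variable {G : Type u} [Group G] [Finite G]

theorem fat_of_commute {t : ℕ} (ht : t.Prime) {a b : G} (ha : orderOf a = t) (hb : orderOf b = t) (hab : Commute a b)
    (hnb : b ∉ Subgroup.zpowers a) {K : Subgroup G} (haK : a ∈ K) (hbK : b ∈ K) : Fat t K := by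
  haveI := Fact.mk ht
  have hcomm : ∀ (x : Subgroup.zpowers a) (y : Subgroup.zpowers b), Commute (x : G) (y : G) := by
    rintro ⟨_, i, rfl⟩ ⟨_, j, rfl⟩
    exact (hab.zpow_left i).zpow_right j
  set f := MonoidHom.noncommCoprod (Subgroup.zpowers a).subtype (Subgroup.zpowers b).subtype hcomm with hf
  have hval : ∀ x, f x = (x.1 : G) * x.2 := fun x => rfl
  have hinj : Function.Injective f := by
    rw [injective_iff_map_eq_one]
    rintro ⟨x, y⟩ h
    rw [hval] at h
    have hy : (y : G) = 1 := by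
      by_contra hy1
      have h' : (y : G) ∈ Subgroup.zpowers a := by
        rw [eq_inv_of_mul_eq_one_right h]
        exact inv_mem x.2
      obtain ⟨k, hk⟩ := Subgroup.mem_zpowers_iff.mp y.2
      haveI : Fact (Nat.card (Subgroup.zpowers b)).Prime := ⟨by rw [Nat.card_zpowers, hb]; exact ht⟩
      have htop := zpowers_eq_top_of_prime_card (G := Subgroup.zpowers b) rfl (g := y) (fun e => hy1 (congrArg Subtype.val e))
      obtain ⟨i, hi⟩ := Subgroup.mem_zpowers_iff.mp
        (show (⟨b, Subgroup.mem_zpowers b⟩ : Subgroup.zpowers b) ∈ Subgroup.zpowers y by rw [htop]; trivial)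
      exact hnb (by
        rw [show b = (y : G) ^ i from (congrArg Subtype.val hi).symm]
        exact zpow_mem h' i)
    rw [hy, mul_one] at h
    exact Prod.ext (Subtype.ext h) (Subtype.ext hy)
  refine ⟨f.range, ?_, ⟨?_, ?_⟩, ?_⟩
  · rintro _ ⟨⟨⟨x, i, rfl⟩, ⟨y, j, rfl⟩⟩, rfl⟩
    rw [hval]
    exact mul_mem (zpow_mem haK i) (zpow_mem hbK j)
  · refine ⟨⟨?_⟩⟩
    rintro ⟨_, x, rfl⟩ ⟨_, y, rfl⟩
    exact Subtype.ext (by
      show f x * f y = f y * f x
      rw [← map_mul, ← map_mul]
      congr 1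
      exact Prod.ext (mul_comm' _ _) (mul_comm' _ _))
  · rintro _ ⟨x, rfl⟩
    rw [← map_pow]
    have : x ^ t = 1 := Prod.ext
      (orderOf_dvd_iff_pow_eq_one.mp (ha ▸ Nat.card_zpowers a ▸ orderOf_dvd_natCard x.1))
      (orderOf_dvd_iff_pow_eq_one.mp (hb ▸ Nat.card_zpowers b ▸ orderOf_dvd_natCard x.2))
    rw [this, map_one]
  · rw [← Nat.card_congr (MonoidHom.ofInjective hinj).toEquiv, Nat.card_prod, Nat.card_zpowers, Nat.card_zpowers,
      ha, hb, pow_two]
where
  mul_comm' {c : G} (x y : Subgroup.zpowers c) : x * y = y * x := by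
    obtain ⟨_, i, rfl⟩ := x
    obtain ⟨_, j, rfl⟩ := y
    exact Subtype.ext ((Commute.refl c).zpow_zpow i j).eq

theorem Hyp.pow_eq_one {R : Finset ℕ} (hR : Ar R) (hG : Hyp R G) {t : ℕ} (ht : t ∈ R) (h2 : t ≠ 2) {K : Subgroup G}
    (hK : IsPGroup t K) : ∀ x ∈ K, x ^ t = 1 := by
  intro x hx
  haveI := Fact.mk (hR.prime t ht)
  obtain ⟨k, hk⟩ := IsPGroup.iff_orderOf.mp hK ⟨x, hx⟩
  rw [Subgroup.orderOf_mk] at hk
  rcases k with _ | _ | k
  · rw [pow_zero, orderOf_eq_one_iff] at hk; simp [hk]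
  · rw [zero_add, pow_one] at hk; rw [← hk]; exact pow_orderOf_eq_one x
  · exfalso
    refine hG.expp (x ^ t ^ k) t ht h2 ?_
    rw [orderOf_pow, hk, Nat.gcd_eq_right (pow_dvd_pow _ (by omega)), Nat.pow_div (by omega) (hR.prime t ht).pos]
    congr 1
    omega

theorem Hyp.pow_four {R : Finset ℕ} (hG : Hyp R G) {K : Subgroup G}
    (hK : IsPGroup 2 K) : ∀ x ∈ K, x ^ 4 = 1 := by
  intro x hx
  obtain ⟨k, hk⟩ := IsPGroup.iff_orderOf.mp hK ⟨x, hx⟩
  rw [Subgroup.orderOf_mk] at hk
  rcases Nat.lt_or_ge k 3 with h | h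
  · exact orderOf_dvd_iff_pow_eq_one.mp (hk ▸ (pow_dvd_pow 2 (by omega : k ≤ 2)))
  · exfalso
    refine hG.exp2 (x ^ 2 ^ (k - 3)) ?_
    rw [orderOf_pow, hk, Nat.gcd_eq_right (pow_dvd_pow _ (by omega)), Nat.pow_div (by omega) two_pos]
    rw [show k - (k - 3) = 3 by omega]
    norm_num

theorem exists_central {t : ℕ} (ht : t.Prime) {K : Subgroup G} (hK : IsPGroup t K) (hK1 : K ≠ ⊥) :
    ∃ z ∈ K, orderOf z = t ∧ ∀ x ∈ K, Commute z x := by
  haveI := Fact.mk ht
  haveI : Nontrivial K := (Subgroup.nontrivial_iff_ne_bot K).mpr hK1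
  haveI := hK.center_nontrivial
  obtain ⟨⟨z, hz⟩, hzo⟩ := exists_prime_orderOf_dvd_card' (G := Subgroup.center K) t (by
    obtain ⟨n, hn, he⟩ := (hK.to_subgroup (Subgroup.center K)).nontrivial_iff_card.mp inferInstance
    rw [he]; exact dvd_pow_self t hn.ne')
  exact ⟨z, z.2, by rw [← hzo, Subgroup.orderOf_mk, Subgroup.orderOf_coe],
    fun x hx => (congrArg Subtype.val (Subgroup.mem_center_iff.mp hz ⟨x, hx⟩)).symm⟩

/-- A thin group of odd prime exponent has prime order. -/
theorem thin_card {t : ℕ} (ht : t.Prime) {K : Subgroup G} (he : ∀ x ∈ K, x ^ t = 1) (hK : ¬ Fat t K) (hK1 : K ≠ ⊥) :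
    Nat.card K = t := by
  haveI := Fact.mk ht
  obtain ⟨z, hz, hzo, hzc⟩ := exists_central ht (isPGroup_of_exp he) hK1
  have : K = Subgroup.zpowers z := by
    refine le_antisymm (fun x hx => ?_) (Subgroup.zpowers_le.mpr hz)
    by_contra hn
    exact hK (fat_of_commute ht hzo (orderOf_eq_prime (he x hx) fun e => hn (e ▸ one_mem _)) (hzc x hx) hn hz hx)
  rw [this, Nat.card_zpowers, hzo]

/-- An element of prime order at least five centralises a thin 2-group of exponent four. -/
theorem thin_two {K : Subgroup G} (hKp : IsPGroup 2 K) (he : ∀ x ∈ K, x ^ 4 = 1) (hK : ¬ Fat 2 K) {a : G} {r : ℕ}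
    (hr : r.Prime) (hr5 : 5 ≤ r) (ha : a ^ r = 1) (haK : a ∈ Subgroup.normalizer (K : Set G)) :
    a ∈ Subgroup.centralizer (K : Set G) := by
  classical
  rcases eq_or_ne K ⊥ with rfl | hK1
  · rw [Subgroup.mem_centralizer_iff]; intro k hk; rw [show k = 1 from hk, one_mul, mul_one]
  obtain ⟨z, hz, hzo, hzc⟩ := exists_central Nat.prime_two hKp hK1
  have hzz : z * z = 1 := by rw [← pow_two, ← hzo]; exact pow_orderOf_eq_one z
  have hinv : ∀ x ∈ K, x * x = 1 → x = 1 ∨ x = z := by
    intro x hx hxx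
    by_contra h
    push Not at h
    refine hK (fat_of_commute Nat.prime_two hzo (orderOf_eq_prime (by rw [pow_two, hxx]) h.1) (hzc x hx) ?_ hz hx)
    intro hm
    obtain ⟨i, rfl⟩ := Subgroup.mem_zpowers_iff.mp hm
    rcases Int.even_or_odd' i with ⟨j, rfl | rfl⟩
    · exact h.1 (by rw [zpow_mul, zpow_ofNat, pow_two, hzz, one_zpow])
    · exact h.2 (by rw [zpow_add, zpow_mul, zpow_ofNat, pow_two, hzz, one_zpow, one_mul, zpow_one])
  have hsq : ∀ x ∈ K, ¬ (x = 1 ∨ x = z) → x * x = z := by
    intro x hx hn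
    have h4 : (x * x) * (x * x) = 1 := by
      rw [← he x hx, pow_succ, pow_succ, pow_succ, pow_one, mul_assoc (x * x) x x]
    rcases hinv _ (mul_mem hx hx) h4 with h | h
    · exact absurd (hinv x hx h) hn
    · exact h
  have hinv' : ∀ x ∈ K, x * x = z → x⁻¹ = x * z := by
    intro x hx h
    refine inv_eq_of_mul_eq_one_right ?_
    rw [← mul_assoc, h, hzz]
  have hcm : ∀ x ∈ K, x * x = z → ∀ w ∈ K, w * w = z → Commute x w → w = x ∨ w = x⁻¹ := by
    intro x hx hxx w hw hww hc
    have h1 : (x * w) * (x * w) = 1 := by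
      rw [mul_assoc, ← mul_assoc w x w, ← hc.eq, mul_assoc x w w, ← mul_assoc x x, hxx, hww, hzz]
    rcases hinv _ (mul_mem hx hw) h1 with h | h
    · exact Or.inr (eq_inv_of_mul_eq_one_right h)
    · exact Or.inl (mul_left_cancel (h.trans hxx.symm))
  have hnc : ∀ x ∈ K, x * x = z → ∀ y ∈ K, y * y = z → ¬ Commute x y → y * x * y⁻¹ = x⁻¹ := by
    intro x hx hxx y hy hyy hc
    have h1 : (x * y) * (x * y) = z := hsq _ (mul_mem hx hy) (by
      rintro (h | h)
      · exact hc (eq_inv_of_mul_eq_one_left h ▸ (Commute.refl y).inv_left)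
      · refine hc ?_
        have : x = z * y⁻¹ := by rw [← h]; group
        rw [this]
        exact Commute.mul_left (hzc y hy) (Commute.refl y).inv_left)
    have h2 : x * y * x = z * y⁻¹ := by rw [← h1]; group
    rw [hinv' y hy hyy, ← mul_assoc, (hzc y hy).eq, mul_assoc y z z, hzz, mul_one] at h2
    calc y * x * y⁻¹ = x⁻¹ * (x * y * x) * y⁻¹ := by group
      _ = x⁻¹ := by rw [h2]; group
  -- conjugation by `a`
  set f : G → G := fun x => a * x * a⁻¹ with hfdef
  have hf : ∀ i x, f^[i] x = a ^ i * x * (a ^ i)⁻¹ := by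
    intro i x; induction i with
    | zero => simp
    | succ i ih => rw [Function.iterate_succ_apply', ih, hfdef]; simp only [pow_succ']; group
  have hfr : ∀ x, f^[r] x = x := fun x => by rw [hf, ha]; simp
  have hfK : ∀ x ∈ K, f x ∈ K := fun x hx => (Subgroup.mem_normalizer_iff.mp haK x).mp hx
  have hfz : f z = z := by
    rcases hinv _ (hfK z hz) (by rw [hfdef]; calc a * z * a⁻¹ * (a * z * a⁻¹) = a * (z * z) * a⁻¹ := by group
                                      _ = 1 := by rw [hzz]; group) with h | h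
    · refine absurd hzo ?_
      have : z = 1 := by
        calc z = a⁻¹ * f z * a := by rw [hfdef]; group
          _ = 1 := by rw [h]; group
      rw [this, orderOf_one]; norm_num
    · exact h
  have hfsq : ∀ x, x * x = z → f x * f x = z := fun x h => by
    calc f x * f x = a * (x * x) * a⁻¹ := by simp only [hfdef]; group
      _ = z := by rw [h]; exact hfz
  have hfinv : ∀ x, f x⁻¹ = (f x)⁻¹ := fun x => by simp only [hfdef]; group
  rw [Subgroup.mem_centralizer_iff]
  intro x hx
  suffices hfix : f x = x by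
    calc x * a = f x * a := by rw [hfix]
      _ = a * x := by simp only [hfdef]; group
  by_cases hx' : x = 1 ∨ x = z
  · rcases hx' with rfl | rfl
    · simp [hfdef]
    · exact hfz
  have hxx := hsq x hx hx'
  -- the pairs `{w, w⁻¹}`
  obtain ⟨y, hy, hyy, hcover⟩ : ∃ y ∈ K, y * y = z ∧ ∀ w ∈ K, w * w = z →
      ({w, w⁻¹} : Finset G) ∈ ({{x, x⁻¹}, {y, y⁻¹}, {x * y, (x * y)⁻¹}} : Finset (Finset G)) := by
    by_cases hall : ∀ w ∈ K, w * w = z → Commute x w
    · refine ⟨x, hx, hxx, fun w hw hww => ?_⟩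
      rcases hcm x hx hxx w hw hww (hall w hw hww) with rfl | rfl
      · simp
      · simp [Finset.pair_comm]
    push Not at hall
    obtain ⟨y, hy, hyy, hyc⟩ := hall
    refine ⟨y, hy, hyy, fun w hw hww => ?_⟩
    by_cases hwc : Commute x w
    · rcases hcm x hx hxx w hw hww hwc with rfl | rfl
      · simp
      · simp [Finset.pair_comm]
    have hy' := hnc x hx hxx y hy hyy hyc
    have hw' := hnc x hx hxx w hw hww hwc
    have hu : Commute x (w⁻¹ * y) := by
      have h : w⁻¹ * x⁻¹ * w = x := by rw [← hw']; group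
      have h' : (w⁻¹ * y) * x * (w⁻¹ * y)⁻¹ = x := by
        calc _ = w⁻¹ * (y * x * y⁻¹) * w := by group
          _ = x := by rw [hy', h]
      show x * (w⁻¹ * y) = w⁻¹ * y * x
      conv_lhs => rw [← h']
      group
    by_cases hu' : w⁻¹ * y = 1 ∨ w⁻¹ * y = z
    · rcases hu' with h | h
      · rw [inv_mul_eq_one] at h; simp [h]
      · have e : w = y⁻¹ := by
          have : y = w * z := by rw [← h]; group
          rw [this, ← hinv' w hw hww, inv_inv]
        simp [e, Finset.pair_comm]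
    rcases hcm x hx hxx _ (mul_mem (inv_mem hw) hy) (hsq _ (mul_mem (inv_mem hw) hy) hu') hu with h | h
    · have e : w = y * x⁻¹ := by rw [← h]; group
      have e2 : y * x⁻¹ = x * y := by
        calc y * x⁻¹ = (y * y) * x * y⁻¹ := by rw [← hy']; simp only [mul_assoc]
          _ = x * z * (y * z) := by rw [hyy, (hzc x hx).eq, hinv' y hy hyy]
          _ = x * (z * y) * z := by group
          _ = x * y := by rw [(hzc y hy).eq, ← mul_assoc x, mul_assoc (x * y) z z, hzz, mul_one]
      simp [e, e2, Finset.pair_comm]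
    · have e : w = y * x := by rw [eq_inv_iff_mul_eq_one] at h; calc w = w * (w⁻¹ * y * x) := by rw [h, mul_one]
                                                                    _ = y * x := by group
      have e2 : y * x = (x * y)⁻¹ := by
        have h3 : (x * y) * (y * x) = 1 := by
          rw [mul_assoc, ← mul_assoc y y x, hyy, (hzc x hx).eq, ← mul_assoc, hxx, hzz]
        exact (inv_eq_of_mul_eq_one_right h3).symm
      simp [e, e2, Finset.pair_comm]
  set g : Finset G → Finset G := fun s => s.image f with hg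
  have hgr : ∀ s, g^[r] s = s := by
    have hgi : ∀ i s, g^[i] s = s.image f^[i] := by
      intro i s; induction i with
      | zero => simp
      | succ i ih => rw [Function.iterate_succ_apply', ih, hg]; simp only [Finset.image_image, Function.iterate_succ']
    intro s
    rw [hgi, show f^[r] = id from funext hfr, Finset.image_id]
  set S : Finset (Finset G) := ({{x, x⁻¹}, {y, y⁻¹}, {x * y, (x * y)⁻¹}} : Finset (Finset G)).filter
    (fun s => ∃ w ∈ K, w * w = z ∧ s = {w, w⁻¹}) with hS
  have hxS : ({x, x⁻¹} : Finset G) ∈ S := by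
    rw [hS, Finset.mem_filter]
    exact ⟨hcover x hx hxx, x, hx, hxx, rfl⟩
  have hgS : ∀ s ∈ S, g s ∈ S := by
    intro s hs
    rw [hS, Finset.mem_filter] at hs
    obtain ⟨-, w, hw, hww, rfl⟩ := hs
    have e : g {w, w⁻¹} = {f w, (f w)⁻¹} := by simp [hg, Finset.image_insert, hfinv]
    rw [hS, Finset.mem_filter, e]
    exact ⟨hcover _ (hfK w hw) (hfsq w hww), f w, hfK w hw, hfsq w hww, rfl⟩
  have hS3 : S.card < r :=
    lt_of_le_of_lt ((Finset.card_filter_le _ _).trans Finset.card_le_three) (by omega)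
  have hpair := fixed_of_small g hr hgr S hgS hS3 hxS
  refine fixed_of_small f hr hfr {x, x⁻¹} (fun w hw => ?_) (lt_of_le_of_lt Finset.card_le_two (by omega)) (by simp)
  rw [← hpair, hg]
  exact Finset.mem_image_of_mem f hw

/-- An element of odd order among the primes centralises every thin normalised subgroup. -/
theorem Hyp.thin_cent {R : Finset ℕ} (hR : Ar R) (hG : Hyp R G) {t r : ℕ} (ht : t ∈ R) (hr : r ∈ R) (hr2 : r ≠ 2)
    {K : Subgroup G} (hKp : IsPGroup t K) (hK : ¬ Fat t K) {a : G} (ha : a ^ r = 1)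
    (haK : a ∈ Subgroup.normalizer (K : Set G)) : a ∈ Subgroup.centralizer (K : Set G) := by
  rcases eq_or_ne t 2 with rfl | ht2
  · exact thin_two hKp (hG.pow_four hKp) hK (hR.prime r hr) (hR.five r hr hr2) ha haK
  rcases eq_or_ne K ⊥ with rfl | hK1
  · rw [Subgroup.mem_centralizer_iff]; intro k hk; rw [show k = 1 from hk, one_mul, mul_one]
  refine centralises_prime (hR.prime t ht) (thin_card (hR.prime t ht) (hG.pow_eq_one hR ht ht2 hKp) hK hK1) ha ?_ haK
  rw [(hR.prime r hr).coprime_iff_not_dvd]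
  rcases eq_or_ne t r with rfl | hne
  · intro h
    have := Nat.le_of_dvd (by have := (hR.prime t ht).two_le; omega) h
    have := (hR.prime t ht).two_le
    omega
  · exact (hR.sub r hr hr2 t ht ht2 hne).1

end CfsgLib.SzSq
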