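import Cfsg.Agent.Lib.SzSquare.Thin
import Cfsg.Agent.Lib.HallPi
import Cfsg.Agent.Lib.Elementary
import Cfsg.Agent.Lib.PSolvable
import Cfsg.Agent.Lib.EqualOrder.Solvable
import Mathlib.GroupTheory.FixedPointFree

/-!
Cores of a subgroup, transport of rank two, inversion.
-/

set_option autoImplicit false
set_option linter.unusedSectionVars false

namespace CfsgLib.SzSq

open Subgroup
open scoped Pointwise

universe u v

variable {G : Type u} [Group G] [Finite G]

/-- The `t`-core of a subgroup. -/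
def core (t : ℕ) (L : Subgroup G) : Subgroup G := (Cfsg.pCore t L).map L.subtype

theorem core_le (t : ℕ) (L : Subgroup G) : core t L ≤ L := Subgroup.map_subtype_le _

theorem core_pgroup (t : ℕ) (L : Subgroup G) : IsPGroup t (core t L) := (CfsgLib.isPGroup_pCore t).map _

theorem le_normalizer_core (t : ℕ) (L : Subgroup G) : L ≤ Subgroup.normalizer (core t L : Set G) := by
  have h := Subgroup.le_normalizer_map (H := Cfsg.pCore t L) L.subtype
  rw [Subgroup.normalizer_eq_top, ← MonoidHom.range_eq_map, Subgroup.range_subtype] at h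
  exact h

theorem core_commute {p q : ℕ} (hp : p.Prime) (hq : q.Prime) (hne : p ≠ q) (L : Subgroup G) {x y : G}
    (hx : x ∈ core p L) (hy : y ∈ core q L) : Commute x y := by
  haveI := Fact.mk hp
  haveI := Fact.mk hq
  obtain ⟨x, hx', rfl⟩ := hx
  obtain ⟨y, hy', rfl⟩ := hy
  refine (Subgroup.commute_of_normal_of_disjoint (Cfsg.pCore p L) (Cfsg.pCore q L) inferInstance inferInstance ?_ x y hx'
    hy').map L.subtype
  exact IsPGroup.disjoint_of_ne p q hne _ _ (CfsgLib.isPGroup_pCore p) (CfsgLib.isPGroup_pCore q)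

theorem pgroup_commute {p q : ℕ} (hp : p.Prime) (hq : q.Prime) (hne : p ≠ q) {P Q : Subgroup G} (hP : IsPGroup p P)
    (hQ : IsPGroup q Q) (hPQ : P ≤ Subgroup.normalizer (Q : Set G)) (hQP : Q ≤ Subgroup.normalizer (P : Set G))
    {x y : G} (hx : x ∈ P) (hy : y ∈ Q) : Commute x y := by
  haveI := Fact.mk hp
  haveI := Fact.mk hq
  have hd := IsPGroup.disjoint_of_ne p q hne P Q hP hQ
  have h1 : x * y * x⁻¹ * y⁻¹ ∈ Q := mul_mem ((Subgroup.mem_normalizer_iff.mp (hPQ hx) y).mp hy) (inv_mem hy)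
  have h2 : x * y * x⁻¹ * y⁻¹ ∈ P := by
    rw [show x * y * x⁻¹ * y⁻¹ = x * (y * x⁻¹ * y⁻¹) by group]
    exact mul_mem hx ((Subgroup.mem_normalizer_iff.mp (hQP hy) _).mp (inv_mem hx))
  exact commutatorElement_eq_one_iff_mul_comm.mp (by
    rw [commutatorElement_def]; exact (Subgroup.disjoint_def.mp hd) h2 h1)

/-- An element centralising every core lies in its own core. -/
theorem absorb (L : Subgroup G) (hL : Group.IsSolvable L) {r : ℕ} (hr : r.Prime) {a : G} (haL : a ∈ L)
    (ha : a ^ r = 1) (h : ∀ t : ℕ, t.Prime → t ∣ Nat.card L → a ∈ Subgroup.centralizer (core t L : Set G)) :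
    a ∈ core r L := by
  haveI := Fact.mk hr
  haveI := hL
  set b : L := ⟨a, haL⟩
  have hb : b ∈ Subgroup.centralizer (Cfsg.fittingSubgroup L : Set L) := by
    suffices h0 : Cfsg.fittingSubgroup L ≤ Subgroup.centralizer {b} by
      rw [Subgroup.mem_centralizer_iff]
      intro y hy
      exact Subgroup.mem_centralizer_singleton_iff.mp (h0 hy)
    rw [CfsgLib.fittingSubgroup_eq_iSup_pCore]
    refine iSup_le fun t => fun y hy => ?_
    rw [Subgroup.mem_centralizer_singleton_iff]
    by_cases hy1 : y = 1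
    · simp [hy1]
    have hd : (t : ℕ) ∣ Nat.card L := by
      haveI := Fact.mk t.2
      obtain ⟨k, hk⟩ := IsPGroup.iff_orderOf.mp (CfsgLib.isPGroup_pCore (G := L) (t : ℕ)) ⟨y, hy⟩
      rw [Subgroup.orderOf_mk] at hk
      rcases k with _ | k
      · rw [pow_zero, orderOf_eq_one_iff] at hk; exact absurd hk hy1
      · exact (hk ▸ dvd_pow_self _ (Nat.succ_ne_zero k)).trans (orderOf_dvd_natCard y)
    exact Subtype.ext (Subgroup.mem_centralizer_iff.mp (h t t.2 hd) y ⟨y, hy, rfl⟩)
  have hF := CfsgLib.centralizer_fitting_le hb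
  have hle := CfsgLib.EqualOrder.Solv.le_pCore_of_le_fitting (q := r) (Q := Subgroup.zpowers b) ?_
    (Subgroup.zpowers_le.mpr hF)
  · exact ⟨b, hle (Subgroup.mem_zpowers b), rfl⟩
  · rintro ⟨_, i, rfl⟩
    refine ⟨1, Subtype.ext ?_⟩
    have : b ^ r = 1 := Subtype.ext (by simpa [b] using ha)
    simp only [pow_one, SubmonoidClass.coe_pow]
    rw [← zpow_natCast, ← zpow_mul, mul_comm, zpow_mul, zpow_natCast, this, one_zpow]
    rfl

theorem fat_map {H : Type v} [Group H] {t : ℕ} {K : Subgroup G} (f : G →* H) (hf : Function.Injective f)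
    (h : Fat t K) : Fat t (K.map f) := by
  obtain ⟨A, hA, ⟨hc, he⟩, hcard⟩ := h
  refine ⟨A.map f, Subgroup.map_mono hA, ⟨?_, ?_⟩, by rw [Subgroup.card_map_of_injective hf, hcard]⟩
  · haveI := hc
    infer_instance
  · rintro _ ⟨a, ha, rfl⟩
    rw [← map_pow, he a ha, map_one]

theorem fat_subgroupOf {t : ℕ} {K L : Subgroup G} (h : Fat t K) (hKL : K ≤ L) : Fat t (K.subgroupOf L) := by
  obtain ⟨A, hA, ⟨hc, he⟩, hcard⟩ := h
  refine ⟨A.subgroupOf L, Subgroup.comap_mono hA, ⟨?_, ?_⟩,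
    by rw [Nat.card_congr (Subgroup.subgroupOfEquivOfLe (hA.trans hKL)).toEquiv, hcard]⟩
  · haveI := hc
    infer_instance
  · exact fun a ha => Subtype.ext (by simpa using he a ha)

/-- A Hall subgroup keeps the rank two. -/
theorem fat_hall {t : ℕ} (ht : t.Prime) {π : Set ℕ} (htπ : t ∈ π) {M H : Subgroup G} (hM : Group.IsSolvable M)
    (hH : Cfsg.IsPiHallOf π H M) (h : Fat t M) : Fat t H := by
  obtain ⟨A, hA, hAe, hc⟩ := h
  obtain ⟨g, -, hg⟩ := CfsgLib.pi_le_conj_hall hM hH hA (fun p hp hd => by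
    rw [hc] at hd
    exact (Nat.prime_dvd_prime_iff_eq hp ht).mp (hp.dvd_of_dvd_pow hd) ▸ htπ)
  refine (fat_map (MulAut.conj g : G ≃* G).toMonoidHom (MulAut.conj g).injective
    ⟨A, le_rfl, hAe, hc⟩).mono ?_
  exact hg

/-- An involution without fixed points inverts. -/
theorem inverts {a : G} (ha : a * a = 1) {P : Subgroup G} (haP : a ∈ Subgroup.normalizer (P : Set G))
    (h : ¬ Fix P a) : ∀ u ∈ P, a * u * a⁻¹ = u⁻¹ := by
  intro u hu
  set φ := QGroupModule.conjAut (Subgroup.zpowers a) P (Subgroup.zpowers_le.mpr haP) ⟨a, Subgroup.mem_zpowers a⟩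
  have hφ : ∀ w : P, ((φ w : P) : G) = a * w * a⁻¹ := fun w => QGroupModule.conjAut_apply _ _ _ _ w
  have hfp : MonoidHom.FixedPointFree φ.toMonoidHom := by
    intro w hw
    by_contra h1
    refine h ⟨w, w.2, fun e => h1 (Subtype.ext e), ?_⟩
    have := congrArg Subtype.val hw
    rw [MulEquiv.coe_toMonoidHom, hφ, mul_inv_eq_iff_eq_mul] at this
    exact this
  have hinv : Function.Involutive φ.toMonoidHom := by
    intro w
    apply Subtype.ext
    have hai : a⁻¹ = a := inv_eq_of_mul_eq_one_right ha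
    rw [MulEquiv.coe_toMonoidHom, hφ, hφ, hai]
    calc a * (a * w * a) * a = (a * a) * w * (a * a) := by group
      _ = w := by rw [ha, one_mul, mul_one]
  have := congrFun (MonoidHom.FixedPointFree.coe_eq_inv_of_involutive hfp hinv) ⟨u, hu⟩
  have h2 := congrArg Subtype.val this
  rwa [MulEquiv.coe_toMonoidHom, hφ] at h2

end CfsgLib.SzSq
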